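import Mathlib
import Groth.Agent.CAlg8.ExtPF

/-! Extension of scalars of a finite projective module, in coordinates. -/

set_option autoImplicit false
set_option linter.unusedSectionVars false

universe u v w

open CategoryTheory Opposite TensorProduct Groth.Agent.CAlg8.ExtPF
open scoped ChangeOfRings Matrix

namespace Groth.Agent.CAlg8.WittDescent

variable {ι : Type} [Fintype ι] [DecidableEq ι]

section
variable {A B : Type u} [CommRing A] [CommRing B] {M : ModuleCat.{u} A}
variable (φ : A →+* B)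

/-- `ι → B` as a module. -/
abbrev piMod (B : Type u) [CommRing B] (ι : Type) : ModuleCat.{u} B := ModuleCat.of B (ι → B)

/-- `x ↦ φ ∘ x`, as a linear map into the restriction of scalars. -/
noncomputable def compLin (s : M →ₗ[A] ι → A) : M ⟶ (ModuleCat.restrictScalars φ).obj (piMod B ι) :=
  ModuleCat.ofHom (Y := ((ModuleCat.restrictScalars φ).obj (piMod B ι) : Type u))
    { toFun := fun m => show ι → B from φ ∘ s m
      map_add' := fun x y => funext fun i => by
        change φ (s (x + y) i) = φ (s x i) + φ (s y i)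
        rw [map_add, Pi.add_apply, map_add]
      map_smul' := fun r x => funext fun i => by
        change φ (s (r • x) i) = φ r * φ (s x i)
        rw [map_smul, Pi.smul_apply, smul_eq_mul, map_mul] }

/-- Coordinates on the extension of scalars. -/
noncomputable def crd (s : M →ₗ[A] ι → A) : (ModuleCat.extendScalars φ).obj M →ₗ[B] ι → B :=
  (((ModuleCat.extendRestrictScalarsAdj φ).homEquiv M (piMod B ι)).symm (compLin φ s)).hom

theorem crd_one' (s : M →ₗ[A] ι → A) (m : M) : crd φ s (one' φ m) = φ ∘ s m := by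
  change (1 : B) • (show ι → B from φ ∘ s m) = φ ∘ s m
  rw [one_smul]

/-- The presentation of the extension of scalars. -/
noncomputable def pre (pr : (ι → A) →ₗ[A] M) : (ι → B) →ₗ[B] (ModuleCat.extendScalars φ).obj M :=
  Fintype.linearCombination B fun i => one' φ (pr (Pi.single i 1))

theorem pre_comp (pr : (ι → A) →ₗ[A] M) (x : ι → A) : pre φ pr (φ ∘ x) = one' φ (pr x) := by
  conv_rhs => rw [pi_eq_sum_univ' x, map_sum]
  rw [pre, Fintype.linearCombination_apply]
  let ψ : M →+ (ModuleCat.extendScalars φ).obj M := AddMonoidHom.mk' (one' φ) (one'_add φ)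
  change _ = ψ (∑ i, pr (x i • Pi.single i 1))
  rw [map_sum]
  exact Finset.sum_congr rfl fun i _ => by
    rw [map_smul pr]
    exact (one'_smul φ (x i) _).symm

theorem pre_crd (pr : (ι → A) →ₗ[A] M) (s : M →ₗ[A] ι → A) (hps : ∀ m, pr (s m) = m)
    (z : (ModuleCat.extendScalars φ).obj M) : pre φ pr (crd φ s z) = z := by
  induction z using extend_induction with
  | zero => rw [map_zero, map_zero]
  | smul d y => rw [map_smul, map_smul, crd_one', pre_comp, hps]
  | add z w hz hw => rw [map_add, map_add, hz, hw]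

/-- The matrix of the idempotent `s ∘ pr`. -/
noncomputable def idemMat (pr : (ι → A) →ₗ[A] M) (s : M →ₗ[A] ι → A) : Matrix ι ι A :=
  LinearMap.toMatrix' (s ∘ₗ pr)

theorem idemMat_mulVec (pr : (ι → A) →ₗ[A] M) (s : M →ₗ[A] ι → A) (v : ι → A) :
    idemMat pr s *ᵥ v = s (pr v) := by
  rw [idemMat, LinearMap.toMatrix'_mulVec, LinearMap.comp_apply]

theorem crd_pre (pr : (ι → A) →ₗ[A] M) (s : M →ₗ[A] ι → A) (v : ι → B) :
    crd φ s (pre φ pr v) = (idemMat pr s).map φ *ᵥ v := by
  have h : crd φ s ∘ₗ pre φ pr = ((idemMat pr s).map φ).mulVecLin := by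
    refine (Pi.basisFun B ι).ext fun j => ?_
    have e : (Pi.single j (1 : B) : ι → B) = φ ∘ (Pi.single j (1 : A) : ι → A) := by
      funext i
      rcases eq_or_ne i j with rfl | hij
      · simp
      · simp [hij]
    rw [Pi.basisFun_apply, LinearMap.comp_apply, Matrix.mulVecLin_apply, e, pre_comp, crd_one', ← idemMat_mulVec]
    exact funext fun i => RingHom.map_mulVec φ _ _ i
  exact LinearMap.congr_fun h v

/-- The matrix of a linear map between extensions of scalars. -/
noncomputable def homMat (pr : (ι → A) →ₗ[A] M) (s : M →ₗ[A] ι → A) (φ₁ φ₂ : A →+* B)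
    (Φ : (ModuleCat.extendScalars φ₁).obj M ⟶ (ModuleCat.extendScalars φ₂).obj M) : Matrix ι ι B :=
  LinearMap.toMatrix' (crd φ₂ s ∘ₗ Φ.hom ∘ₗ pre φ₁ pr)

variable (pr : (ι → A) →ₗ[A] M) (s : M →ₗ[A] ι → A) {φ₁ φ₂ φ₃ : A →+* B}

theorem homMat_mulVec (Φ : (ModuleCat.extendScalars φ₁).obj M ⟶ (ModuleCat.extendScalars φ₂).obj M) (v : ι → B) :
    homMat pr s φ₁ φ₂ Φ *ᵥ v = crd φ₂ s (Φ (pre φ₁ pr v)) := by
  rw [homMat, LinearMap.toMatrix'_mulVec]; rfl

variable (hps : ∀ m, pr (s m) = m)
include hps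

theorem homMat_mulVec_crd (Φ : (ModuleCat.extendScalars φ₁).obj M ⟶ (ModuleCat.extendScalars φ₂).obj M)
    (z : (ModuleCat.extendScalars φ₁).obj M) : homMat pr s φ₁ φ₂ Φ *ᵥ crd φ₁ s z = crd φ₂ s (Φ z) := by
  rw [homMat_mulVec, pre_crd φ₁ pr s hps]

theorem crd_injective : Function.Injective (crd φ₁ s) :=
  Function.LeftInverse.injective (pre_crd φ₁ pr s hps)

theorem idemMat_idem : idemMat pr s * idemMat pr s = idemMat pr s := by
  refine Matrix.ext_of_mulVec_single fun j => ?_
  rw [← Matrix.mulVec_mulVec, idemMat_mulVec, idemMat_mulVec, hps]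

theorem homMat_src (Φ : (ModuleCat.extendScalars φ₁).obj M ⟶ (ModuleCat.extendScalars φ₂).obj M) :
    homMat pr s φ₁ φ₂ Φ * (idemMat pr s).map φ₁ = homMat pr s φ₁ φ₂ Φ := by
  refine Matrix.ext_of_mulVec_single fun j => ?_
  rw [← Matrix.mulVec_mulVec, ← crd_pre, homMat_mulVec_crd pr s hps, homMat_mulVec]

theorem homMat_tgt (Φ : (ModuleCat.extendScalars φ₁).obj M ⟶ (ModuleCat.extendScalars φ₂).obj M) :
    (idemMat pr s).map φ₂ * homMat pr s φ₁ φ₂ Φ = homMat pr s φ₁ φ₂ Φ := by
  refine Matrix.ext_of_mulVec_single fun j => ?_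
  rw [← Matrix.mulVec_mulVec, homMat_mulVec, ← crd_pre, pre_crd φ₂ pr s hps]

omit hps in
theorem homMat_id : homMat pr s φ₁ φ₁ (𝟙 _) = (idemMat pr s).map φ₁ := by
  refine Matrix.ext_of_mulVec_single fun j => ?_
  rw [homMat_mulVec, ← crd_pre]
  rfl

theorem homMat_comp (Φ : (ModuleCat.extendScalars φ₁).obj M ⟶ (ModuleCat.extendScalars φ₂).obj M)
    (Ψ : (ModuleCat.extendScalars φ₂).obj M ⟶ (ModuleCat.extendScalars φ₃).obj M) :
    homMat pr s φ₂ φ₃ Ψ * homMat pr s φ₁ φ₂ Φ = homMat pr s φ₁ φ₃ (Φ ≫ Ψ) := by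
  refine Matrix.ext_of_mulVec_single fun j => ?_
  rw [← Matrix.mulVec_mulVec, homMat_mulVec pr s Φ, homMat_mulVec_crd pr s hps, homMat_mulVec]
  rfl

end

section
variable {C : Type v} [Category.{w} C] (K : C ⥤ CommRingCat.{u}) {a b c : C}

theorem crd_push {A B D : Type u} [CommRing A] [CommRing B] [CommRing D] (φ : A →+* B) (ψ : B →+* D)
    (χ : A →+* D) (h : ∀ a, χ a = ψ (φ a)) {M : ModuleCat.{u} A} (s : M →ₗ[A] ι → A)
    (z : (ModuleCat.extendScalars φ).obj M) : crd χ s (push φ ψ χ h M z) = ψ ∘ crd φ s z := by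
  induction z using extend_induction with
  | zero => rw [push_zero, map_zero, map_zero]; exact funext fun i => (map_zero ψ).symm
  | smul x m =>
    rw [push_smul_one, map_smul, map_smul, crd_one', crd_one']
    funext i
    simp [h]
  | add z w hz hw =>
    rw [push_add, map_add, map_add, hz, hw]
    exact funext fun i => (map_add ψ _ _).symm

/-- The matrix of a pullback. -/
theorem homMat_pull {M : ModuleCat.{u} (K.obj a)} (pr : (ι → K.obj a) →ₗ[K.obj a] M) (s : M →ₗ[K.obj a] ι → K.obj a)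
    (hps : ∀ m, pr (s m) = m) (f₁ f₂ : a ⟶ b) (g : b ⟶ c) (gf₁ gf₂ : a ⟶ c)
    (e₁ : f₁.toLoc ≫ g.toLoc = gf₁.toLoc) (e₂ : f₂.toLoc ≫ g.toLoc = gf₂.toLoc)
    (Φ : (ModuleCat.extendScalars (K.map f₁).hom).obj M ⟶ (ModuleCat.extendScalars (K.map f₂).hom).obj M) :
    homMat pr s (K.map gf₁).hom (K.map gf₂).hom
        (mc K f₁ g gf₁ e₁ M ≫ (ModuleCat.extendScalars (K.map g).hom).map Φ ≫ mci K f₂ g gf₂ e₂ M) =
      (homMat pr s (K.map f₁).hom (K.map f₂).hom Φ).map (K.map g).hom := by
  have h₁' : f₁ ≫ g = gf₁ := congrArg Discrete.as e₁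
  have h₂' : f₂ ≫ g = gf₂ := congrArg Discrete.as e₂
  have h₁ : ∀ x, (K.map gf₁).hom x = (K.map g).hom ((K.map f₁).hom x) := fun x => by rw [← h₁', K.map_comp]; rfl
  have h₂ : ∀ x, (K.map gf₂).hom x = (K.map g).hom ((K.map f₂).hom x) := fun x => by rw [← h₂', K.map_comp]; rfl
  set Ξ := mc K f₁ g gf₁ e₁ M ≫ (ModuleCat.extendScalars (K.map g).hom).map Φ ≫ mci K f₂ g gf₂ e₂ M
  have hgen : ∀ m, crd (K.map gf₂).hom s (Ξ (one' (K.map gf₁).hom m)) =
      (homMat pr s (K.map f₁).hom (K.map f₂).hom Φ).map (K.map g).hom *ᵥ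
        crd (K.map gf₁).hom s (one' (K.map gf₁).hom m) := fun m => by
    have e : Ξ (one' (K.map gf₁).hom m) =
        push (K.map f₂).hom (K.map g).hom (K.map gf₂).hom h₂ M (Φ (one' (K.map f₁).hom m)) :=
      comp_apply_of _ _ (mc_one K f₁ g gf₁ e₁ M m)
        (comp_apply_of ((ModuleCat.extendScalars (K.map g).hom).map Φ) _ rfl
          ((congrArg _ (mc_push K f₂ g gf₂ e₂ h₂ M (Φ (one' (K.map f₁).hom m))).symm).trans
            (mci_mc_apply K f₂ g gf₂ e₂ M _)))
    rw [e, crd_push, ← homMat_mulVec_crd pr s hps, crd_one', crd_one']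
    funext i
    rw [Function.comp_apply, RingHom.map_mulVec]
    congr 1
    exact funext fun j => (h₁ _).symm
  have hall : ∀ z, crd (K.map gf₂).hom s (Ξ z) =
      (homMat pr s (K.map f₁).hom (K.map f₂).hom Φ).map (K.map g).hom *ᵥ crd (K.map gf₁).hom s z := fun z => by
    induction z using extend_induction with
    | zero => simp
    | smul x m => rw [map_smul, map_smul, map_smul, hgen, Matrix.mulVec_smul]
    | add z w hz hw => rw [map_add, map_add, map_add, Matrix.mulVec_add, hz, hw]
  refine Matrix.ext_of_mulVec_single fun j => ?_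
  rw [homMat_mulVec, hall, crd_pre]
  conv_rhs => rw [← homMat_src pr s hps Φ, Matrix.map_mul]
  rw [← Matrix.mulVec_mulVec]
  congr 2
  exact Matrix.ext fun i k => h₁ _

end

section
variable {A B : Type u} [CommRing A] [CommRing B] [Algebra A B]

/-- An isomorphism `B ⊗ M ≅ M'` from coordinates. -/
theorem exists_iso_of_coords {M' : ModuleCat.{u} B} (pr : (ι → B) →ₗ[B] M') (s : M' →ₗ[B] ι → B)
    (hps : ∀ m, pr (s m) = m) (φ : A →+* B) (hφ : φ = algebraMap A B) (M : ModuleCat.{u} A)
    (f : M →ₗ[A] ι → B) (hinj : Function.Injective (f.liftBaseChange B))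
    (hrange : LinearMap.range (f.liftBaseChange B) = LinearMap.range (idemMat pr s).mulVecLin) :
    ∃ e : (ModuleCat.extendScalars φ).obj M ≅ M', (∀ a, e.hom (one' φ a) = pr (f a)) ∧
      ∀ a, s (pr (f a)) = f a := by
  have hfix : ∀ v ∈ LinearMap.range (f.liftBaseChange B), s (pr v) = v := by
    rw [hrange]
    rintro _ ⟨w, rfl⟩
    rw [Matrix.mulVecLin_apply, idemMat_mulVec, hps]
  let cm : M ⟶ (ModuleCat.restrictScalars φ).obj M' :=
    ModuleCat.ofHom (Y := ((ModuleCat.restrictScalars φ).obj M' : Type u))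
      { toFun := fun a => show M' from pr (f a)
        map_add' := fun x y => by
          change pr (f (x + y)) = pr (f x) + pr (f y)
          rw [map_add, map_add]
        map_smul' := fun r x => by
          change pr (f (r • x)) = φ r • pr (f x)
          rw [map_smul, ← algebraMap_smul B r (f x), map_smul, hφ] }
  let ex : (ModuleCat.extendScalars φ).obj M ⟶ M' := ((ModuleCat.extendRestrictScalarsAdj φ).homEquiv M M').symm cm
  have hex : ∀ a, ex (one' φ a) = pr (f a) := fun a => by
    change (1 : B) • (show M' from pr (f a)) = pr (f a)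
    rw [one_smul]
  let τ : (ModuleCat.extendScalars φ).obj M →ₗ[B] B ⊗[A] M :=
    (((ModuleCat.extendRestrictScalarsAdj φ).homEquiv M (ModuleCat.of B (B ⊗[A] M))).symm
      (ModuleCat.ofHom (Y := ((ModuleCat.restrictScalars φ).obj (ModuleCat.of B (B ⊗[A] M)) : Type u))
        { toFun := fun a => show B ⊗[A] M from 1 ⊗ₜ a
          map_add' := fun x y => tmul_add _ _ _
          map_smul' := fun r x => by
            change (1 : B) ⊗ₜ[A] (r • x) = φ r • ((1 : B) ⊗ₜ[A] x)
            rw [tmul_smul, hφ, algebraMap_smul] })).hom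
  let σ : B ⊗[A] M →+ (ModuleCat.extendScalars φ).obj M :=
    TensorProduct.liftAddHom
      { toFun := fun b => AddMonoidHom.mk' (fun a => b • one' φ a) fun x y => by rw [one'_add, smul_add]
        map_zero' := AddMonoidHom.ext fun a => zero_smul B _
        map_add' := fun x y => AddMonoidHom.ext fun a => add_smul x y _ }
      fun r b a => by
        change (r • b) • one' φ a = b • one' φ (r • a)
        rw [one'_smul, smul_smul, hφ, Algebra.smul_def, mul_comm]
  have hτ1 : ∀ a, τ (one' φ a) = 1 ⊗ₜ a := fun a => by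
    change (1 : B) • ((1 : B) ⊗ₜ[A] a) = 1 ⊗ₜ a
    rw [one_smul]
  have hστ : ∀ z, σ (τ z) = z := fun z => by
    induction z using extend_induction with
    | zero => rw [map_zero, map_zero]
    | smul x m =>
      rw [map_smul, hτ1, smul_tmul', smul_eq_mul, mul_one]
      rfl
    | add z w hz hw => rw [map_add, map_add, hz, hw]
  have hτσ : ∀ z, τ (σ z) = z := fun z => by
    induction z using TensorProduct.induction_on with
    | zero => rw [map_zero, map_zero]
    | tmul x m =>
      change τ (x • one' φ m) = _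
      rw [map_smul, hτ1, smul_tmul', smul_eq_mul, mul_one]
    | add z w hz hw => rw [map_add, map_add, hz, hw]
  have hexτ : ∀ z, ex z = pr (f.liftBaseChange B (τ z)) := fun z => by
    induction z using extend_induction with
    | zero => simp
    | smul x m => rw [map_smul, map_smul, map_smul, map_smul, hex, hτ1, LinearMap.liftBaseChange_tmul, one_smul]
    | add z w hz hw => rw [map_add, map_add, map_add, map_add, hz, hw]
  have hbij : Function.Bijective ex.hom := by
    refine ⟨fun x y hxy => ?_, fun m => ?_⟩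
    · rw [hexτ, hexτ] at hxy
      have h := congrArg s hxy
      rw [hfix _ ⟨_, rfl⟩, hfix _ ⟨_, rfl⟩] at h
      rw [← hστ x, ← hστ y, hinj h]
    · obtain ⟨w, hw⟩ : s m ∈ LinearMap.range (f.liftBaseChange B) := by
        rw [hrange]
        exact ⟨s m, by rw [Matrix.mulVecLin_apply, idemMat_mulVec, hps]⟩
      exact ⟨σ w, by rw [hexτ, hτσ, hw, hps]⟩
  refine ⟨(LinearEquiv.ofBijective ex.hom hbij).toModuleIso, hex, fun a => hfix _ ⟨1 ⊗ₜ a, ?_⟩⟩
  rw [LinearMap.liftBaseChange_tmul, one_smul]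

end

end Groth.Agent.CAlg8.WittDescent
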