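import Mathlib
import Groth.Agent.FlatMor67.ProjDescent

/-! Faithfully flat descent data on finite projective modules, in coordinates: effectivity and vanishing of
degree one Čech cohomology. -/

set_option autoImplicit false

universe u v

open TensorProduct
open scoped Matrix

namespace Groth.Agent.CAlg8.WittDescent

variable {ι : Type} [Fintype ι] [DecidableEq ι]

theorem comp_mulVec {A B : Type*} [CommRing A] [CommRing B] (f : A →+* B) (M : Matrix ι ι A) (v : ι → A) :
    f ∘ (M *ᵥ v) = M.map f *ᵥ (f ∘ v) := funext fun i => RingHom.map_mulVec f M v i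

theorem map_map_comp {A B C : Type*} [CommRing A] [CommRing B] [CommRing C] (f : A →+* B) (g : B →+* C)
    (h : A →+* C) (hfg : ∀ a, g (f a) = h a) (M : Matrix ι ι A) : (M.map f).map g = M.map h :=
  Matrix.ext fun i j => hfg _

/-- Descent datum on a direct summand (image of the idempotent `P`) of a free module, in coordinates. -/
structure IsDatum {A1 A2 A3 : Type*} [CommRing A1] [CommRing A2] [CommRing A3] (Q1 Q2 : A1 →+* A2)
    (P12 P13 P23 : A2 →+* A3) (μ : A2 →+* A1) (P : Matrix ι ι A1) (G : Matrix ι ι A2) : Prop where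
  idem : P * P = P
  src : G * P.map Q1 = G
  tgt : P.map Q2 * G = G
  cocycle : G.map P23 * G.map P12 = G.map P13
  diag : G.map μ = P

section Map

variable {A1 A2 A3 B1 B2 B3 : Type*} [CommRing A1] [CommRing A2] [CommRing A3] [CommRing B1] [CommRing B2]
  [CommRing B3] {Q1 Q2 : A1 →+* A2} {P12 P13 P23 : A2 →+* A3} {μ : A2 →+* A1}
  {Q1' Q2' : B1 →+* B2} {P12' P13' P23' : B2 →+* B3} {μ' : B2 →+* B1}

theorem IsDatum.map {P : Matrix ι ι A1} {G : Matrix ι ι A2} (H : IsDatum Q1 Q2 P12 P13 P23 μ P G)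
    (f1 : A1 →+* B1) (f2 : A2 →+* B2) (f3 : A3 →+* B3)
    (hQ1 : ∀ a, Q1' (f1 a) = f2 (Q1 a)) (hQ2 : ∀ a, Q2' (f1 a) = f2 (Q2 a))
    (h12 : ∀ a, P12' (f2 a) = f3 (P12 a)) (h13 : ∀ a, P13' (f2 a) = f3 (P13 a))
    (h23 : ∀ a, P23' (f2 a) = f3 (P23 a)) (hμ : ∀ a, μ' (f2 a) = f1 (μ a)) :
    IsDatum Q1' Q2' P12' P13' P23' μ' (P.map f1) (G.map f2) where
  idem := by rw [← Matrix.map_mul, H.idem]
  src := by
    rw [map_map_comp f1 Q1' (f2.comp Q1) hQ1, ← map_map_comp Q1 f2 (f2.comp Q1) (fun _ => rfl),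
      ← Matrix.map_mul, H.src]
  tgt := by
    rw [map_map_comp f1 Q2' (f2.comp Q2) hQ2, ← map_map_comp Q2 f2 (f2.comp Q2) (fun _ => rfl),
      ← Matrix.map_mul, H.tgt]
  cocycle := by
    rw [map_map_comp f2 P12' (f3.comp P12) h12, map_map_comp f2 P13' (f3.comp P13) h13,
      map_map_comp f2 P23' (f3.comp P23) h23, ← map_map_comp P12 f3 (f3.comp P12) (fun _ => rfl),
      ← map_map_comp P13 f3 (f3.comp P13) (fun _ => rfl), ← map_map_comp P23 f3 (f3.comp P23) (fun _ => rfl),
      ← Matrix.map_mul, H.cocycle]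
  diag := by
    rw [map_map_comp f2 μ' (f1.comp μ) hμ, ← map_map_comp μ f1 (f1.comp μ) (fun _ => rfl), H.diag]

end Map

section Lin

variable (R : Type u) (S : Type u) [CommRing R] [CommRing S] [Algebra R S]

noncomputable def q1 : S →ₐ[R] S ⊗[R] S := Algebra.TensorProduct.includeLeft
noncomputable def q2 : S →ₐ[R] S ⊗[R] S := Algebra.TensorProduct.includeRight
noncomputable def p12 : S ⊗[R] S →ₐ[R] S ⊗[R] (S ⊗[R] S) := Algebra.TensorProduct.map (AlgHom.id R S) (q1 R S)
noncomputable def p13 : S ⊗[R] S →ₐ[R] S ⊗[R] (S ⊗[R] S) := Algebra.TensorProduct.map (AlgHom.id R S) (q2 R S)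
noncomputable def p23 : S ⊗[R] S →ₐ[R] S ⊗[R] (S ⊗[R] S) := Algebra.TensorProduct.includeRight
noncomputable def mu : S ⊗[R] S →ₐ[R] S := Algebra.TensorProduct.lmul' R
noncomputable def eps : S ⊗[R] (S ⊗[R] S) →ₐ[R] S ⊗[R] S :=
  Algebra.TensorProduct.lift (q1 R S) (AlgHom.id R (S ⊗[R] S)) fun x y => Commute.all _ _

@[simp] theorem q1_apply (s : S) : q1 R S s = s ⊗ₜ[R] 1 := rfl
@[simp] theorem q2_apply (s : S) : q2 R S s = 1 ⊗ₜ[R] s := rfl
@[simp] theorem p23_apply (x : S ⊗[R] S) : p23 R S x = 1 ⊗ₜ[R] x := rfl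
@[simp] theorem p12_tmul (a b : S) : p12 R S (a ⊗ₜ[R] b) = a ⊗ₜ[R] (b ⊗ₜ[R] 1) := rfl
@[simp] theorem p13_tmul (a b : S) : p13 R S (a ⊗ₜ[R] b) = a ⊗ₜ[R] (1 ⊗ₜ[R] b) := rfl
@[simp] theorem mu_tmul (a b : S) : mu R S (a ⊗ₜ[R] b) = a * b := by simp [mu]
@[simp] theorem eps_tmul (a : S) (x : S ⊗[R] S) : eps R S (a ⊗ₜ[R] x) = (a ⊗ₜ[R] 1) * x := by simp [eps]

theorem mu_q1 (s : S) : mu R S (q1 R S s) = s := by simp
theorem mu_q2 (s : S) : mu R S (q2 R S s) = s := by simp
theorem eps_p23 (x : S ⊗[R] S) : eps R S (p23 R S x) = x := by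
  rw [p23_apply, eps_tmul, ← Algebra.TensorProduct.one_def, one_mul]
theorem eps_p13 (x : S ⊗[R] S) : eps R S (p13 R S x) = x := by
  induction x using TensorProduct.induction_on with
  | zero => simp
  | tmul a b => simp
  | add x y hx hy => rw [map_add, map_add, hx, hy]
theorem eps_p12 (x : S ⊗[R] S) : eps R S (p12 R S x) = q1 R S (mu R S x) := by
  induction x using TensorProduct.induction_on with
  | zero => simp
  | tmul a b => simp
  | add x y hx hy => rw [map_add, map_add, hx, hy, map_add, map_add]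
theorem p12_q1 (s : S) : p12 R S (q1 R S s) = p13 R S (q1 R S s) := by simp
theorem p12_q2 (s : S) : p12 R S (q2 R S s) = p23 R S (q1 R S s) := by simp
theorem p13_q2 (s : S) : p13 R S (q2 R S s) = p23 R S (q2 R S s) := by simp

variable {R S}

/-- A linear descent datum. -/
abbrev LinDatum (P : Matrix ι ι S) (G : Matrix ι ι (S ⊗[R] S)) : Prop :=
  IsDatum (q1 R S).toRingHom (q2 R S).toRingHom (p12 R S).toRingHom (p13 R S).toRingHom (p23 R S).toRingHom
    (mu R S).toRingHom P G

/-- `y ↦ G (q₁ y) - q₂ y`. -/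
noncomputable def defect (G : Matrix ι ι (S ⊗[R] S)) : (ι → S) →ₗ[R] ι → S ⊗[R] S :=
  (G.mulVecLin.restrictScalars R) ∘ₗ (q1 R S).toLinearMap.compLeft ι - (q2 R S).toLinearMap.compLeft ι

theorem defect_apply (G : Matrix ι ι (S ⊗[R] S)) (y : ι → S) :
    defect G y = G *ᵥ (q1 R S ∘ y) - q2 R S ∘ y := rfl

/-- The `S ⊗ -` of `defect`, in coordinates. -/
noncomputable def dfct3 (G : Matrix ι ι (S ⊗[R] S)) (u : ι → S ⊗[R] S) : ι → S ⊗[R] (S ⊗[R] S) :=
  G.map (p23 R S) *ᵥ (p12 R S ∘ u) - p13 R S ∘ u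

theorem piRight_lTensor_defect (G : Matrix ι ι (S ⊗[R] S)) (w : S ⊗[R] (ι → S)) :
    TensorProduct.piRight R R S (fun _ : ι => S ⊗[R] S) ((defect G).lTensor S w) =
      dfct3 G (TensorProduct.piRight R R S (fun _ : ι => S) w) := by
  induction w using TensorProduct.induction_on with
  | zero => ext i; simp [dfct3, Matrix.mulVec, dotProduct]
  | tmul s y =>
    ext i
    simp only [LinearMap.lTensor_tmul, piRight_apply, piRightHom_tmul]
    simp only [dfct3, defect_apply, Pi.sub_apply,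
      Function.comp_apply, Matrix.mulVec, dotProduct, Matrix.map_apply, tmul_sub, tmul_sum,
      p12_tmul, p13_tmul, p23_apply, q1_apply, q2_apply, Algebra.TensorProduct.tmul_mul_tmul, one_mul]
  | add w w' hw hw' =>
    rw [map_add, map_add, hw, hw', map_add]
    ext i
    simp only [dfct3, Pi.add_apply, Pi.sub_apply, Function.comp_apply, map_add, Matrix.mulVec, dotProduct,
      mul_add, Finset.sum_add_distrib]
    abel

/-- Degree one Čech cohomology of a descent datum vanishes. -/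
theorem LinDatum.exists_coboundary [Module.FaithfullyFlat R S] {P : Matrix ι ι S} {G : Matrix ι ι (S ⊗[R] S)}
    (H : LinDatum P G) (z : ι → S ⊗[R] S) (hfix : P.map (q2 R S) *ᵥ z = z)
    (hz : G.map (p23 R S) *ᵥ (p12 R S ∘ z) + p23 R S ∘ z = p13 R S ∘ z) :
    ∃ y : ι → S, P *ᵥ y = y ∧ G *ᵥ (q1 R S ∘ y) - q2 R S ∘ y = z := by
  classical
  have key : (1 : S) ⊗ₜ[R] z ∈ LinearMap.range ((defect G).lTensor S) := by
    refine ⟨(TensorProduct.piRight R R S (fun _ : ι => S)).symm (-z),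
      (TensorProduct.piRight R R S (fun _ : ι => S ⊗[R] S)).injective ?_⟩
    rw [piRight_lTensor_defect, LinearEquiv.apply_symm_apply]
    ext i
    have h1 := congrFun hz i
    simp only [Pi.add_apply, Function.comp_apply] at h1
    simp only [dfct3, piRight_apply, piRightHom_tmul, Pi.sub_apply, Function.comp_apply, Pi.neg_apply,
      map_neg, ← h1, ← p23_apply]
    rw [show (⇑(p12 R S) ∘ (-z)) = -(⇑(p12 R S) ∘ z) from funext fun j => map_neg (p12 R S) (z j),
      Matrix.mulVec_neg, Pi.neg_apply]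
    abel
  obtain ⟨w, hw⟩ := key
  have hz0 : (LinearMap.range (defect G)).mkQ z = 0 := by
    apply Module.FaithfullyFlat.tensorProduct_mk_injective (A := R) (B := S)
    rw [map_zero, TensorProduct.mk_apply, ← LinearMap.lTensor_tmul, ← hw, ← LinearMap.comp_apply,
      ← LinearMap.lTensor_comp, LinearMap.range_mkQ_comp, LinearMap.lTensor_zero]
    rfl
  obtain ⟨y, hy⟩ := (Submodule.Quotient.mk_eq_zero _).mp hz0
  rw [defect_apply] at hy
  refine ⟨P *ᵥ y, by rw [Matrix.mulVec_mulVec, H.idem], ?_⟩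
  have e1 : G *ᵥ (⇑(q1 R S) ∘ (P *ᵥ y)) = G *ᵥ (q1 R S ∘ y) := by
    have := comp_mulVec (q1 R S).toRingHom P y
    exact (congrArg (G *ᵥ ·) this).trans (by rw [Matrix.mulVec_mulVec, H.src]; rfl)
  have e2 : ⇑(q2 R S) ∘ (P *ᵥ y) = P.map (q2 R S) *ᵥ (q2 R S ∘ y) := comp_mulVec (q2 R S).toRingHom P y
  have e3 : P.map (q2 R S) *ᵥ (G *ᵥ (q1 R S ∘ y)) = G *ᵥ (q1 R S ∘ y) := by
    rw [Matrix.mulVec_mulVec]
    exact congrArg (· *ᵥ (q1 R S ∘ y)) H.tgt
  rw [e1, e2, ← e3, ← Matrix.mulVec_sub, hy, hfix]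

/-- The invariants of a descent datum. -/
noncomputable def invariants (P : Matrix ι ι S) (G : Matrix ι ι (S ⊗[R] S)) : Submodule R (ι → S) :=
  LinearMap.ker ((defect G).prod (P.mulVecLin.restrictScalars R - LinearMap.id))

theorem mem_invariants {P : Matrix ι ι S} {G : Matrix ι ι (S ⊗[R] S)} {v : ι → S} :
    v ∈ invariants P G ↔ G *ᵥ (q1 R S ∘ v) = q2 R S ∘ v ∧ P *ᵥ v = v := by
  simp only [invariants, LinearMap.mem_ker, LinearMap.prod_apply, Function.prod, Prod.mk_eq_zero, defect_apply,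
    sub_eq_zero, LinearMap.sub_apply, LinearMap.restrictScalars_apply, Matrix.mulVecLin_apply, LinearMap.id_apply]

theorem piRight_lTensor_proj (P : Matrix ι ι S) (w : S ⊗[R] (ι → S)) :
    TensorProduct.piRight R R S (fun _ : ι => S) ((P.mulVecLin.restrictScalars R - LinearMap.id).lTensor S w) =
      P.map (q2 R S) *ᵥ TensorProduct.piRight R R S (fun _ : ι => S) w -
        TensorProduct.piRight R R S (fun _ : ι => S) w := by
  induction w using TensorProduct.induction_on with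
  | zero => ext i; simp [Matrix.mulVec, dotProduct]
  | tmul s y =>
    ext i
    simp only [LinearMap.lTensor_tmul, piRight_apply, piRightHom_tmul]
    simp only [LinearMap.sub_apply, piRightHom_tmul,
      LinearMap.restrictScalars_apply, Matrix.mulVecLin_apply, LinearMap.id_apply, Pi.sub_apply, Matrix.mulVec,
      dotProduct, Matrix.map_apply, q2_apply, Algebra.TensorProduct.tmul_mul_tmul, one_mul, tmul_sub, tmul_sum]
  | add w w' hw hw' => rw [map_add, map_add, hw, hw', map_add, Matrix.mulVec_add]; abel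

theorem prodRight_lTensor {M N N' : Type*} [AddCommGroup M] [Module R M] [AddCommGroup N] [Module R N]
    [AddCommGroup N'] [Module R N'] (f : M →ₗ[R] N) (g : M →ₗ[R] N') (w : S ⊗[R] M) :
    TensorProduct.prodRight R R S N N' ((f.prod g).lTensor S w) = (f.lTensor S w, g.lTensor S w) := by
  induction w using TensorProduct.induction_on with
  | zero => rw [map_zero, map_zero, map_zero, map_zero, Prod.mk_zero_zero]
  | tmul s y => simp
  | add w w' hw hw' => rw [map_add, map_add, hw, hw']; simp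

/-- The canonical map from the base change of the invariants. -/
noncomputable def canMap (P : Matrix ι ι S) (G : Matrix ι ι (S ⊗[R] S)) : S ⊗[R] invariants P G →ₗ[S] ι → S :=
  (invariants P G).subtype.liftBaseChange S

/-- The base change of the invariants inside `S ⊗ S`-coordinates. -/
noncomputable def coords (P : Matrix ι ι S) (G : Matrix ι ι (S ⊗[R] S)) :
    S ⊗[R] invariants P G →ₗ[R] ι → S ⊗[R] S :=
  (TensorProduct.piRight R R S (fun _ : ι => S)).toLinearMap ∘ₗ (invariants P G).subtype.lTensor S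

theorem mu_coords (P : Matrix ι ι S) (G : Matrix ι ι (S ⊗[R] S)) (t : S ⊗[R] invariants P G) :
    mu R S ∘ coords P G t = canMap P G t := by
  induction t using TensorProduct.induction_on with
  | zero => ext i; simp
  | tmul s v => ext i; simp [coords, canMap]
  | add x y hx hy => rw [map_add, map_add, ← hx, ← hy]; ext i; simp

theorem coords_spec [Module.Flat R S] (P : Matrix ι ι S) (G : Matrix ι ι (S ⊗[R] S)) (u : ι → S ⊗[R] S) :
    (∃ t, coords P G t = u) ↔ dfct3 G u = 0 ∧ P.map (q2 R S) *ᵥ u = u := by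
  let e := TensorProduct.piRight R R S (fun _ : ι => S)
  obtain ⟨w, rfl⟩ := e.surjective u
  have ex := Module.Flat.lTensor_exact S
    (LinearMap.exact_subtype_ker_map ((defect G).prod (P.mulVecLin.restrictScalars R - LinearMap.id))) w
  rw [← (TensorProduct.prodRight R R S (ι → S ⊗[R] S) (ι → S)).map_eq_zero_iff, prodRight_lTensor,
    Prod.mk_eq_zero, ← (TensorProduct.piRight R R S (fun _ : ι => S ⊗[R] S)).map_eq_zero_iff,
    piRight_lTensor_defect, ← e.map_eq_zero_iff, piRight_lTensor_proj, sub_eq_zero] at ex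
  refine Iff.trans ⟨?_, ?_⟩ ex.symm
  · rintro ⟨t, ht⟩
    exact ⟨t, e.injective ht⟩
  · rintro ⟨t, ht⟩
    exact ⟨t, congrArg e ht⟩

theorem coords_eq [Module.Flat R S] (P : Matrix ι ι S) (G : Matrix ι ι (S ⊗[R] S)) (t : S ⊗[R] invariants P G) :
    coords P G t = G *ᵥ (q1 R S ∘ canMap P G t) := by
  have h := ((coords_spec P G _).mp ⟨t, rfl⟩).1
  rw [dfct3, sub_eq_zero] at h
  have h' := congrArg (eps R S ∘ ·) h
  have e0 : eps R S ∘ (G.map (p23 R S) *ᵥ (p12 R S ∘ coords P G t)) =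
      (G.map (p23 R S)).map (eps R S) *ᵥ (eps R S ∘ p12 R S ∘ coords P G t) :=
    comp_mulVec (eps R S).toRingHom _ _
  have e1 : (G.map (p23 R S)).map (eps R S) = G := Matrix.ext fun i j => eps_p23 R S _
  have e2 : eps R S ∘ p12 R S ∘ coords P G t = q1 R S ∘ canMap P G t := by
    rw [← mu_coords]; funext i; exact eps_p12 R S _
  have e3 : eps R S ∘ p13 R S ∘ coords P G t = coords P G t := funext fun i => eps_p13 R S _
  exact e3.symm.trans (h'.symm.trans (e0.trans (by rw [e1, e2])))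

theorem canMap_injective [Module.Flat R S] (P : Matrix ι ι S) (G : Matrix ι ι (S ⊗[R] S)) :
    Function.Injective (canMap P G) := by
  intro a b hab
  have : Function.Injective (coords P G) :=
    (TensorProduct.piRight R R S (fun _ : ι => S)).injective.comp
      (Module.Flat.lTensor_preserves_injective_linearMap _ Subtype.val_injective)
  exact this (by rw [coords_eq, coords_eq, hab])

theorem range_canMap [Module.Flat R S] {P : Matrix ι ι S} {G : Matrix ι ι (S ⊗[R] S)} (H : LinDatum P G) :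
    LinearMap.range (canMap P G) = LinearMap.range P.mulVecLin := by
  refine le_antisymm ?_ ?_
  · rintro _ ⟨t, rfl⟩
    refine ⟨canMap P G t, ?_⟩
    have h := congrArg (mu R S ∘ ·) ((coords_spec P G _).mp ⟨t, rfl⟩).2
    rw [← mu_coords, Matrix.mulVecLin_apply]
    have e0 : mu R S ∘ (P.map (q2 R S) *ᵥ coords P G t) = (P.map (q2 R S)).map (mu R S) *ᵥ (mu R S ∘ coords P G t) :=
      comp_mulVec (mu R S).toRingHom _ _
    have e1 : (P.map (q2 R S)).map (mu R S) = P := Matrix.ext fun i j => mu_q2 R S _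
    rw [e1] at e0
    exact e0.symm.trans h
  · rintro _ ⟨v, rfl⟩
    rw [Matrix.mulVecLin_apply]
    let w := P *ᵥ v
    have c1 : dfct3 G (G *ᵥ (q1 R S ∘ w)) = 0 := by
      rw [dfct3, sub_eq_zero]
      have e0 : p12 R S ∘ (G *ᵥ (q1 R S ∘ w)) = G.map (p12 R S) *ᵥ (p12 R S ∘ q1 R S ∘ w) :=
        comp_mulVec (p12 R S).toRingHom _ _
      have e1 : p13 R S ∘ (G *ᵥ (q1 R S ∘ w)) = G.map (p13 R S) *ᵥ (p13 R S ∘ q1 R S ∘ w) :=
        comp_mulVec (p13 R S).toRingHom _ _
      have e2 : p12 R S ∘ q1 R S ∘ w = p13 R S ∘ q1 R S ∘ w := funext fun i => p12_q1 R S _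
      rw [e0, e1, e2, Matrix.mulVec_mulVec]
      exact congrArg (· *ᵥ (p13 R S ∘ q1 R S ∘ w)) H.cocycle
    have c2 : P.map (q2 R S) *ᵥ (G *ᵥ (q1 R S ∘ w)) = G *ᵥ (q1 R S ∘ w) := by
      rw [Matrix.mulVec_mulVec]
      exact congrArg (· *ᵥ (q1 R S ∘ w)) H.tgt
    obtain ⟨t, ht⟩ := (coords_spec P G (G *ᵥ (q1 R S ∘ w))).mpr ⟨c1, c2⟩
    refine ⟨t, ?_⟩
    rw [← mu_coords, ht]
    have e0 : mu R S ∘ (G *ᵥ (q1 R S ∘ w)) = G.map (mu R S) *ᵥ (mu R S ∘ q1 R S ∘ w) :=
      comp_mulVec (mu R S).toRingHom _ _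
    have e1 : mu R S ∘ q1 R S ∘ w = w := funext fun i => mu_q1 R S _
    have e2 : G.map (mu R S) = P := H.diag
    rw [e0, e1, e2]
    show P *ᵥ (P *ᵥ v) = P *ᵥ v
    rw [Matrix.mulVec_mulVec, H.idem]

/-- The invariants are finite projective. -/
theorem invariants_finite_projective [Module.FaithfullyFlat R S] {P : Matrix ι ι S}
    {G : Matrix ι ι (S ⊗[R] S)} (H : LinDatum P G) :
    Module.Finite R (invariants P G) ∧ Module.Projective R (invariants P G) := by
  let e : S ⊗[R] invariants P G ≃ₗ[S] LinearMap.range P.mulVecLin :=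
    (LinearEquiv.ofInjective _ (canMap_injective P G)).trans (LinearEquiv.ofEq _ _ (range_canMap H))
  have hproj : Module.Projective S (LinearMap.range P.mulVecLin) :=
    Module.Projective.of_split (LinearMap.range P.mulVecLin).subtype P.mulVecLin.rangeRestrict
      (LinearMap.ext fun ⟨_, v, hv⟩ => Subtype.ext (by
        subst hv; simp [Matrix.mulVec_mulVec, H.idem]))
  have : Module.Finite S (S ⊗[R] invariants P G) := Module.Finite.equiv e.symm
  have : Module.Projective S (S ⊗[R] invariants P G) := Module.Projective.of_equiv e.symm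
  exact ⟨Module.Finite.of_finite_tensorProduct_of_faithfullyFlat S,
    Groth.Agent.FlatMor67.projective_descent R S (invariants P G)⟩

end Lin

end Groth.Agent.CAlg8.WittDescent
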