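import Mathlib
import Groth.Agent.CAlg8.WittDescent.Coord
import Groth.Agent.CAlg8.ExtDesc
import Groth.Agent.CAlg8.WittDescent.Linear

/-! Descent data for the module pseudofunctor, in coordinates. -/

set_option autoImplicit false
set_option linter.unusedSectionVars false

universe u v w t

open CategoryTheory Opposite Groth.Agent.CAlg8.ExtPF
open scoped Matrix

namespace Groth.Agent.CAlg8.WittDescent

variable {D : Type v} [Category.{w} D] (K : Dᵒᵖ ⥤ CommRingCat.{u}) {S X : D} (f : X ⟶ S)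
  {ι : Type} [Fintype ι] [DecidableEq ι]

/-- The underlying module of a descent datum. -/
noncomputable abbrev objU (DD : (P K).DescentData (fun _ : PUnit.{t + 1} => f)) : ModuleCat.{u} (K.obj (op X)) :=
  DD.obj PUnit.unit

/-- The gluing morphism of a descent datum. -/
noncomputable def homD (DD : (P K).DescentData (fun _ : PUnit.{t + 1} => f)) {Y : D} (g₁ g₂ : Y ⟶ X)
    (h : g₁ ≫ f = g₂ ≫ f) :
    (ModuleCat.extendScalars (K.map g₁.op).hom).obj (objU K f DD) ⟶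
      (ModuleCat.extendScalars (K.map g₂.op).hom).obj (objU K f DD) :=
  DD.hom (i₁ := PUnit.unit) (i₂ := PUnit.unit) (g₁ ≫ f) g₁ g₂ rfl h.symm

theorem homD_congr {D : Type v} [Category.{w} D] {F : Pseudofunctor (LocallyDiscrete Dᵒᵖ) Cat.{u, u+1}} {S X Y : D}
    {f : X ⟶ S} (DD : F.DescentData (fun _ : PUnit.{t + 1} => f)) {q q' : Y ⟶ S} (hq : q = q') (g₁ g₂ : Y ⟶ X)
    (h₁ : g₁ ≫ f = q) (h₂ : g₂ ≫ f = q) (h₁' : g₁ ≫ f = q') (h₂' : g₂ ≫ f = q') :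
    DD.hom (i₁ := PUnit.unit) (i₂ := PUnit.unit) q g₁ g₂ h₁ h₂ =
      DD.hom (i₁ := PUnit.unit) (i₂ := PUnit.unit) q' g₁ g₂ h₁' h₂' := by
  subst hq; rfl

theorem homD_self (DD : (P K).DescentData (fun _ : PUnit.{t + 1} => f)) {Y : D} (g : Y ⟶ X) :
    homD K f DD g g rfl = 𝟙 _ :=
  DD.hom_self (i := PUnit.unit) (g ≫ f) g rfl

theorem homD_comp (DD : (P K).DescentData (fun _ : PUnit.{t + 1} => f)) {Y : D} (g₁ g₂ g₃ : Y ⟶ X)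
    (h₁₂ : g₁ ≫ f = g₂ ≫ f) (h₂₃ : g₂ ≫ f = g₃ ≫ f) :
    homD K f DD g₁ g₂ h₁₂ ≫ homD K f DD g₂ g₃ h₂₃ = homD K f DD g₁ g₃ (h₁₂.trans h₂₃) := by
  have e : homD K f DD g₂ g₃ h₂₃ = DD.hom (i₁ := PUnit.unit) (i₂ := PUnit.unit) (g₁ ≫ f) g₂ g₃ h₁₂.symm
      (h₁₂.trans h₂₃).symm := homD_congr DD h₁₂.symm g₂ g₃ rfl h₂₃.symm h₁₂.symm (h₁₂.trans h₂₃).symm
  rw [e]
  exact DD.hom_comp (g₁ ≫ f) g₁ g₂ g₃ rfl h₁₂.symm (h₁₂.trans h₂₃).symm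

theorem pullHom_unfold {C : Type v} [Category.{w} C] (F : Pseudofunctor (LocallyDiscrete Cᵒᵖ) Cat.{u, u+1})
    {X Y Y' : C} (M N : F.obj (.mk (op X))) (f₁ f₂ : Y ⟶ X) (g : Y' ⟶ Y) (gf₁ gf₂ : Y' ⟶ X)
    (h₁ : g ≫ f₁ = gf₁) (h₂ : g ≫ f₂ = gf₂)
    (e₁ : f₁.op.toLoc ≫ g.op.toLoc = gf₁.op.toLoc) (e₂ : f₂.op.toLoc ≫ g.op.toLoc = gf₂.op.toLoc)
    (φ : (F.map f₁.op.toLoc).toFunctor.obj M ⟶ (F.map f₂.op.toLoc).toFunctor.obj N) :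
    Pseudofunctor.LocallyDiscreteOpToCat.pullHom φ g gf₁ gf₂ h₁ h₂ =
      (F.mapComp' f₁.op.toLoc g.op.toLoc gf₁.op.toLoc e₁).hom.toNatTrans.app M ≫
        (F.map g.op.toLoc).toFunctor.map φ ≫
          (F.mapComp' f₂.op.toLoc g.op.toLoc gf₂.op.toLoc e₂).inv.toNatTrans.app N := rfl

theorem midA {C : Type v} [Category.{w} C] (K : C ⥤ CommRingCat.{u}) {a b c : C} (f₁ f₂ : a ⟶ b) (g : b ⟶ c)
    (gf₁ gf₂ : a ⟶ c) (e₁ : f₁.toLoc ≫ g.toLoc = gf₁.toLoc) (e₂ : f₂.toLoc ≫ g.toLoc = gf₂.toLoc)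
    (M N : ModuleCat.{u} (K.obj a))
    (φ : (ModuleCat.extendScalars (K.map f₁).hom).obj M ⟶ (ModuleCat.extendScalars (K.map f₂).hom).obj N) :
    ((P K).mapComp' f₁.toLoc g.toLoc gf₁.toLoc e₁).hom.toNatTrans.app M ≫
        ((P K).map g.toLoc).toFunctor.map φ ≫
          ((P K).mapComp' f₂.toLoc g.toLoc gf₂.toLoc e₂).inv.toNatTrans.app N =
      mc K f₁ g gf₁ e₁ M ≫ (ModuleCat.extendScalars (K.map g).hom).map φ ≫ mci K f₂ g gf₂ e₂ N := rfl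

theorem mid {C : Type v} [Category.{w} C] (K : C ⥤ CommRingCat.{u}) {a b c : C} (f₁ f₂ : a ⟶ b) (g : b ⟶ c)
    (gf₁ gf₂ : a ⟶ c) (l₁ l₂ : LocallyDiscrete.mk a ⟶ LocallyDiscrete.mk b) (gl : LocallyDiscrete.mk b ⟶ LocallyDiscrete.mk c)
    (gl₁ gl₂ : LocallyDiscrete.mk a ⟶ LocallyDiscrete.mk c) (h₁ : l₁ = f₁.toLoc) (h₂ : l₂ = f₂.toLoc) (h₃ : gl = g.toLoc)
    (h₄ : gl₁ = gf₁.toLoc) (h₅ : gl₂ = gf₂.toLoc) (e₁ : l₁ ≫ gl = gl₁) (e₂ : l₂ ≫ gl = gl₂)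
    (eK₁ : f₁.toLoc ≫ g.toLoc = gf₁.toLoc) (eK₂ : f₂.toLoc ≫ g.toLoc = gf₂.toLoc)
    (M N : ModuleCat.{u} (K.obj a))
    (φ : ((P K).map l₁).toFunctor.obj M ⟶ ((P K).map l₂).toFunctor.obj N)
    (φK : (ModuleCat.extendScalars (K.map f₁).hom).obj M ⟶ (ModuleCat.extendScalars (K.map f₂).hom).obj N)
    (hφ : HEq φ φK) :
    HEq (((P K).mapComp' l₁ gl gl₁ e₁).hom.toNatTrans.app M ≫
        ((P K).map gl).toFunctor.map φ ≫
          ((P K).mapComp' l₂ gl gl₂ e₂).inv.toNatTrans.app N)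
      (mc K f₁ g gf₁ eK₁ M ≫ (ModuleCat.extendScalars (K.map g).hom).map φK ≫ mci K f₂ g gf₂ eK₂ N) := by
  subst h₁ h₂ h₃ h₄ h₅
  obtain rfl := (eq_of_heq hφ).symm
  exact heq_of_eq (midA K f₁ f₂ g gf₁ gf₂ e₁ e₂ M N _)

section Gen
variable {C : Type v} [Category.{w} C] (K : C ⥤ CommRingCat.{u})

theorem lhsP2 {b c : C} (g g' : b ⟶ c) (X N : ModuleCat.{u} (K.obj b)) (h : X ⟶ N)
    (G : ((P K).map g.toLoc).toFunctor.obj N ⟶ ((P K).map g'.toLoc).toFunctor.obj N) :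
    ((P K).map g.toLoc).toFunctor.map h ≫ G = (ModuleCat.extendScalars (K.map g).hom).map h ≫ G := rfl

theorem canP2 {a b c : C} (f : a ⟶ b) (g g' : b ⟶ c) (fg : a ⟶ c) (e : f.toLoc ≫ g.toLoc = fg.toLoc) (e' : f.toLoc ≫ g'.toLoc = fg.toLoc) (M : ModuleCat.{u} (K.obj a)) (N : ModuleCat.{u} (K.obj b))
    (h : (ModuleCat.extendScalars (K.map f).hom).obj M ⟶ N) :
    (((P K).mapComp' f.toLoc g.toLoc fg.toLoc e).inv.toNatTrans.app M ≫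
      ((P K).mapComp' f.toLoc g'.toLoc fg.toLoc e').hom.toNatTrans.app M) ≫ ((P K).map g'.toLoc).toFunctor.map h = (mci K f g fg e M ≫ mc K f g' fg e' M) ≫ (ModuleCat.extendScalars (K.map g').hom).map h := rfl

theorem canEqB {a b c : C} (f : a ⟶ b) (g g' : b ⟶ c) (fg : a ⟶ c) (e : f.toLoc ≫ g.toLoc = fg.toLoc) (e' : f.toLoc ≫ g'.toLoc = fg.toLoc) (M : ModuleCat.{u} (K.obj a)) (N : ModuleCat.{u} (K.obj b))
    (h : (ModuleCat.extendScalars (K.map f).hom).obj M ⟶ N)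
    (G : ((P K).map g.toLoc).toFunctor.obj N ⟶ ((P K).map g'.toLoc).toFunctor.obj N)
    (key : (ModuleCat.extendScalars (K.map g).hom).map h ≫ G =
      (mci K f g fg e M ≫ mc K f g' fg e' M) ≫ (ModuleCat.extendScalars (K.map g').hom).map h) :
    ((P K).map g.toLoc).toFunctor.map h ≫ G =
      (((P K).mapComp' f.toLoc g.toLoc fg.toLoc e).inv.toNatTrans.app M ≫
        ((P K).mapComp' f.toLoc g'.toLoc fg.toLoc e').hom.toNatTrans.app M) ≫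
          ((P K).map g'.toLoc).toFunctor.map h :=
  ((lhsP2 K g g' _ N h G).trans key).trans (canP2 K f g g' fg e e' M N h).symm
end Gen

theorem canEqL {C : Type v} [Category.{w} C] (K : C ⥤ CommRingCat.{u}) {a b c : C} (f : a ⟶ b) (g g' : b ⟶ c)
    (fg : a ⟶ c) (fl : LocallyDiscrete.mk a ⟶ LocallyDiscrete.mk b) (gl gl' : LocallyDiscrete.mk b ⟶ LocallyDiscrete.mk c)
    (fgl : LocallyDiscrete.mk a ⟶ LocallyDiscrete.mk c)
    (h₀ : fl = f.toLoc) (h₁ : gl = g.toLoc) (h₂ : gl' = g'.toLoc) (h₃ : fgl = fg.toLoc)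
    (e : fl ≫ gl = fgl) (e' : fl ≫ gl' = fgl) (eK : f.toLoc ≫ g.toLoc = fg.toLoc)
    (eK' : f.toLoc ≫ g'.toLoc = fg.toLoc)
    (M : ModuleCat.{u} (K.obj a)) (N : ModuleCat.{u} (K.obj b))
    (h : ((P K).map fl).toFunctor.obj M ⟶ N) (hK : (ModuleCat.extendScalars (K.map f).hom).obj M ⟶ N)
    (hh : HEq h hK)
    (G : ((P K).map gl).toFunctor.obj N ⟶ ((P K).map gl').toFunctor.obj N)
    (GK : (ModuleCat.extendScalars (K.map g).hom).obj N ⟶ (ModuleCat.extendScalars (K.map g').hom).obj N)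
    (hG : HEq G GK)
    (key : (ModuleCat.extendScalars (K.map g).hom).map hK ≫ GK =
      (mci K f g fg eK M ≫ mc K f g' fg eK' M) ≫ (ModuleCat.extendScalars (K.map g').hom).map hK) :
    ((P K).map gl).toFunctor.map h ≫ G =
      (((P K).mapComp' fl gl fgl e).inv.toNatTrans.app M ≫
        ((P K).mapComp' fl gl' fgl e').hom.toNatTrans.app M) ≫
          ((P K).map gl').toFunctor.map h := by
  subst h₀ h₁ h₂ h₃
  obtain rfl := eq_of_heq hh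
  obtain rfl := eq_of_heq hG
  exact canEqB K f g g' fg e e' M N h G key

theorem nonempty_iso_of_comm {C : Type v} [Category.{w} C] (F : Pseudofunctor (LocallyDiscrete Cᵒᵖ) Cat.{u, u+1})
    {S X : C} (f : X ⟶ S) (DD : F.DescentData (fun _ : PUnit.{t + 1} => f)) (M : F.obj (.mk (op S)))
    (e : (F.map f.op.toLoc).toFunctor.obj M ≅ DD.obj PUnit.unit)
    (comm : ∀ (Y : C) (q : Y ⟶ S) (g₁ g₂ : Y ⟶ X) (hg₁ : g₁ ≫ f = q) (hg₂ : g₂ ≫ f = q)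
      (e₁ : f.op.toLoc ≫ g₁.op.toLoc = q.op.toLoc) (e₂ : f.op.toLoc ≫ g₂.op.toLoc = q.op.toLoc),
      (F.map g₁.op.toLoc).toFunctor.map e.hom ≫ DD.hom (i₁ := PUnit.unit) (i₂ := PUnit.unit) q g₁ g₂ hg₁ hg₂ =
        ((F.mapComp' f.op.toLoc g₁.op.toLoc q.op.toLoc e₁).inv.toNatTrans.app M ≫
          (F.mapComp' f.op.toLoc g₂.op.toLoc q.op.toLoc e₂).hom.toNatTrans.app M) ≫
            (F.map g₂.op.toLoc).toFunctor.map e.hom) :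
    Nonempty ((F.toDescentData (fun _ : PUnit.{t + 1} => f)).obj M ≅ DD) :=
  ⟨Pseudofunctor.DescentData.isoMk (fun _ => e) fun Y q i₁ i₂ g₁ g₂ hg₁ hg₂ => by
    obtain ⟨⟩ := i₁
    obtain ⟨⟩ := i₂
    exact comm Y q g₁ g₂ hg₁ hg₂ (congrArg (fun t => Quiver.Hom.toLoc (Quiver.Hom.op t)) hg₁)
      (congrArg (fun t => Quiver.Hom.toLoc (Quiver.Hom.op t)) hg₂)⟩

theorem homD_pull (DD : (P K).DescentData (fun _ : PUnit.{t + 1} => f)) {Y Y' : D} (g : Y' ⟶ Y) (f₁ f₂ : Y ⟶ X)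
    (h : f₁ ≫ f = f₂ ≫ f) (h' : (g ≫ f₁) ≫ f = (g ≫ f₂) ≫ f)
    (e₁ : f₁.op.toLoc ≫ g.op.toLoc = (g ≫ f₁).op.toLoc) (e₂ : f₂.op.toLoc ≫ g.op.toLoc = (g ≫ f₂).op.toLoc) :
    homD K f DD (g ≫ f₁) (g ≫ f₂) h' =
      mc K f₁.op g.op (g ≫ f₁).op e₁ (objU K f DD) ≫ (ModuleCat.extendScalars (K.map g.op).hom).map (homD K f DD f₁ f₂ h) ≫
        mci K f₂.op g.op (g ≫ f₂).op e₂ (objU K f DD) := by
  have a := (DD.pullHom_hom (i₁ := PUnit.unit) (i₂ := PUnit.unit) g (f₁ ≫ f) ((g ≫ f₁) ≫ f) (Category.assoc _ _ _).symm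
    f₁ f₂ rfl h.symm (g ≫ f₁) (g ≫ f₂) rfl rfl).symm.trans
    (pullHom_unfold (P K) _ _ f₁ f₂ g (g ≫ f₁) (g ≫ f₂) rfl rfl e₁ e₂ _)
  have b := mid K f₁.op f₂.op g.op (g ≫ f₁).op (g ≫ f₂).op f₁.op.toLoc f₂.op.toLoc g.op.toLoc (g ≫ f₁).op.toLoc (g ≫ f₂).op.toLoc
      rfl rfl rfl rfl rfl e₁ e₂ e₁ e₂ (DD.obj PUnit.unit) (DD.obj PUnit.unit) (DD.hom (i₁ := PUnit.unit) (i₂ := PUnit.unit) (f₁ ≫ f) f₁ f₂ rfl h.symm) (homD K f DD f₁ f₂ h) HEq.rfl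
  exact eq_of_heq ((heq_of_eq a).trans b)

theorem hom_ext₂ {A B C : Type u} [CommRing A] [CommRing B] [CommRing C] (φ : A →+* B) (ψ : B →+* C)
    {M : ModuleCat.{u} A} {N : ModuleCat.{u} C}
    {α β : (ModuleCat.extendScalars ψ).obj ((ModuleCat.extendScalars φ).obj M) ⟶ N}
    (h : ∀ a, α (one' ψ (one' φ a)) = β (one' ψ (one' φ a))) : α = β := by
  apply ModuleCat.ExtendScalars.hom_ext
  intro x
  change α (one' ψ x) = β (one' ψ x)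
  induction x using extend_induction with
  | zero => rw [one'_zero, map_zero, map_zero]
  | add z w hz hw => rw [one'_add, map_add, map_add, hz, hw]
  | smul d a => rw [one'_smul, map_smul, map_smul, h]

theorem comm_core' {C : Type v} [Category.{w} C] (K : C ⥤ CommRingCat.{u}) {a b c : C} (f : a ⟶ b) (g₁ g₂ : b ⟶ c)
    (q : a ⟶ c) (e₁ : f.toLoc ≫ g₁.toLoc = q.toLoc) (e₂ : f.toLoc ≫ g₂.toLoc = q.toLoc)
    {M : ModuleCat.{u} (K.obj a)} {N : ModuleCat.{u} (K.obj b)}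
    (pr : (ι → K.obj b) →ₗ[K.obj b] N) (s : N →ₗ[K.obj b] ι → K.obj b) (hps : ∀ m, pr (s m) = m)
    (φ : M → ι → K.obj b) (e : (ModuleCat.extendScalars (K.map f).hom).obj M ⟶ N)
    (he : ∀ a, e (one' (K.map f).hom a) = pr (φ a)) (hφ : ∀ a, s (pr (φ a)) = φ a)
    (G : (ModuleCat.extendScalars (K.map g₁).hom).obj N ⟶ (ModuleCat.extendScalars (K.map g₂).hom).obj N)
    (hinv : ∀ a, homMat pr s (K.map g₁).hom (K.map g₂).hom G *ᵥ ((K.map g₁).hom ∘ φ a) = (K.map g₂).hom ∘ φ a) :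
    (ModuleCat.extendScalars (K.map g₁).hom).map e ≫ G =
      (mci K f g₁ q e₁ M ≫ mc K f g₂ q e₂ M) ≫ (ModuleCat.extendScalars (K.map g₂).hom).map e := by
  refine hom_ext₂ (K.map f).hom (K.map g₁).hom fun a => ?_
  have hL : ((ModuleCat.extendScalars (K.map g₁).hom).map e ≫ G) (one' _ (one' (K.map f).hom a)) =
      G (one' (K.map g₁).hom (pr (φ a))) :=
    comp_apply_of _ G (congrArg (one' (K.map g₁).hom) (he a)) rfl
  have hR : ((mci K f g₁ q e₁ M ≫ mc K f g₂ q e₂ M) ≫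
      (ModuleCat.extendScalars (K.map g₂).hom).map e) (one' _ (one' (K.map f).hom a)) =
      one' (K.map g₂).hom (pr (φ a)) :=
    comp_apply_of _ _ (comp_apply_of _ _
      ((congrArg _ (mc_one K f g₁ q e₁ M a).symm).trans (mci_mc_apply K f g₁ q e₁ M _))
      (mc_one K f g₂ q e₂ M a))
      (congrArg (one' (K.map g₂).hom) (he a))
  refine hL.trans (Eq.trans ?_ hR.symm)
  apply crd_injective pr s hps
  rw [← homMat_mulVec_crd pr s hps, crd_one', crd_one', hφ]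
  exact hinv a

variable (DD : (P K).DescentData (fun _ : PUnit.{t + 1} => f))
  (pr : (ι → K.obj (op X)) →ₗ[K.obj (op X)] objU K f DD) (s : objU K f DD →ₗ[K.obj (op X)] ι → K.obj (op X))

/-- The matrix of the gluing morphism. -/
noncomputable def glueMat {Y : D} (g₁ g₂ : Y ⟶ X) (h : g₁ ≫ f = g₂ ≫ f) : Matrix ι ι (K.obj (op Y)) :=
  homMat pr s (K.map g₁.op).hom (K.map g₂.op).hom (homD K f DD g₁ g₂ h)

variable (hps : ∀ m, pr (s m) = m)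
include hps

theorem glueMat_src {Y : D} (g₁ g₂ : Y ⟶ X) (h : g₁ ≫ f = g₂ ≫ f) :
    glueMat K f DD pr s g₁ g₂ h * (idemMat pr s).map (K.map g₁.op).hom = glueMat K f DD pr s g₁ g₂ h :=
  homMat_src pr s hps _

theorem glueMat_tgt {Y : D} (g₁ g₂ : Y ⟶ X) (h : g₁ ≫ f = g₂ ≫ f) :
    (idemMat pr s).map (K.map g₂.op).hom * glueMat K f DD pr s g₁ g₂ h = glueMat K f DD pr s g₁ g₂ h :=
  homMat_tgt pr s hps _

omit hps in
theorem glueMat_self {Y : D} (g : Y ⟶ X) :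
    glueMat K f DD pr s g g rfl = (idemMat pr s).map (K.map g.op).hom := by
  rw [glueMat, homD_self]
  exact homMat_id pr s

theorem glueMat_comp {Y : D} (g₁ g₂ g₃ : Y ⟶ X) (h₁₂ : g₁ ≫ f = g₂ ≫ f) (h₂₃ : g₂ ≫ f = g₃ ≫ f) :
    glueMat K f DD pr s g₂ g₃ h₂₃ * glueMat K f DD pr s g₁ g₂ h₁₂ =
      glueMat K f DD pr s g₁ g₃ (h₁₂.trans h₂₃) := by
  rw [glueMat, glueMat, homMat_comp pr s hps, homD_comp]
  rfl

theorem glueMat_map {Y Y' : D} (g : Y' ⟶ Y) (f₁ f₂ : Y ⟶ X) (h : f₁ ≫ f = f₂ ≫ f) (gf₁ gf₂ : Y' ⟶ X)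
    (h₁ : g ≫ f₁ = gf₁) (h₂ : g ≫ f₂ = gf₂) (h' : gf₁ ≫ f = gf₂ ≫ f) :
    (glueMat K f DD pr s f₁ f₂ h).map (K.map g.op).hom = glueMat K f DD pr s gf₁ gf₂ h' := by
  subst h₁ h₂
  have e₁ : f₁.op.toLoc ≫ g.op.toLoc = (g ≫ f₁).op.toLoc := rfl
  have e₂ : f₂.op.toLoc ≫ g.op.toLoc = (g ≫ f₂).op.toLoc := rfl
  have k := homMat_pull K pr s hps f₁.op f₂.op g.op (g ≫ f₁).op (g ≫ f₂).op e₁ e₂ (homD K f DD f₁ f₂ h)
  exact k.symm.trans (congrArg (homMat pr s _ _) (homD_pull K f DD g f₁ f₂ h h' e₁ e₂).symm)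

/-- A descent datum is the canonical one as soon as it has enough invariants. -/
theorem nonempty_iso_of_invariant (M : ModuleCat.{u} (K.obj (op S))) (φ : M → ι → K.obj (op X))
    (e : (ModuleCat.extendScalars (K.map f.op).hom).obj M ≅ objU K f DD)
    (he : ∀ a, e.hom (one' (K.map f.op).hom a) = pr (φ a)) (hφ : ∀ a, s (pr (φ a)) = φ a)
    (Y₂ : D) (q₁ q₂ : Y₂ ⟶ X) (hq : q₁ ≫ f = q₂ ≫ f)
    (huniv : ∀ (Y : D) (g₁ g₂ : Y ⟶ X), g₁ ≫ f = g₂ ≫ f → ∃ h : Y ⟶ Y₂, h ≫ q₁ = g₁ ∧ h ≫ q₂ = g₂)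
    (hinv : ∀ a, glueMat K f DD pr s q₁ q₂ hq *ᵥ ((K.map q₁.op).hom ∘ φ a) = (K.map q₂.op).hom ∘ φ a) :
    Nonempty (((P K).toDescentData (fun _ : PUnit.{t + 1} => f)).obj M ≅ DD) := by
  refine nonempty_iso_of_comm (P K) f DD M e fun Y q g₁ g₂ hg₁ hg₂ e₁ e₂ => ?_
  obtain ⟨h, hh₁, hh₂⟩ := huniv Y g₁ g₂ (hg₁.trans hg₂.symm)
  have key := comm_core' K f.op g₁.op g₂.op q.op e₁ e₂ (N := objU K f DD) pr s hps φ e.hom he hφ
    (homD K f DD g₁ g₂ (hg₁.trans hg₂.symm)) fun a => by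
    change glueMat K f DD pr s g₁ g₂ (hg₁.trans hg₂.symm) *ᵥ _ = _
    rw [← glueMat_map K f DD pr s hps h q₁ q₂ hq g₁ g₂ hh₁ hh₂]
    funext i
    have := congrArg (K.map h.op).hom (congrFun (hinv a) i)
    rw [RingHom.map_mulVec] at this
    subst hh₁ hh₂
    simpa [Function.comp_def] using this
  have hD : DD.hom (i₁ := PUnit.unit) (i₂ := PUnit.unit) q g₁ g₂ hg₁ hg₂ =
      homD K f DD g₁ g₂ (hg₁.trans hg₂.symm) := homD_congr DD hg₁.symm g₁ g₂ hg₁ hg₂ rfl (hg₂.trans hg₁.symm)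
  exact canEqL K f.op g₁.op g₂.op q.op f.op.toLoc g₁.op.toLoc g₂.op.toLoc q.op.toLoc rfl rfl rfl rfl e₁ e₂ e₁ e₂
    M (objU K f DD) e.hom e.hom HEq.rfl _ (homD K f DD g₁ g₂ (hg₁.trans hg₂.symm)) (heq_of_eq hD) key

/-- The gluing matrices form a descent datum in coordinates. -/
theorem isDatum_glueMat (Y₂ Y₃ : D) (q₁ q₂ : Y₂ ⟶ X) (hq : q₁ ≫ f = q₂ ≫ f) (p₁₂ p₁₃ p₂₃ : Y₃ ⟶ Y₂) (μ : X ⟶ Y₂)
    (hμ₁ : μ ≫ q₁ = 𝟙 X) (hμ₂ : μ ≫ q₂ = 𝟙 X) (h11 : p₁₂ ≫ q₁ = p₁₃ ≫ q₁) (h21 : p₁₂ ≫ q₂ = p₂₃ ≫ q₁)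
    (h22 : p₁₃ ≫ q₂ = p₂₃ ≫ q₂) :
    IsDatum (K.map q₁.op).hom (K.map q₂.op).hom (K.map p₁₂.op).hom (K.map p₁₃.op).hom (K.map p₂₃.op).hom
      (K.map μ.op).hom (idemMat pr s) (glueMat K f DD pr s q₁ q₂ hq) where
  idem := idemMat_idem pr s hps
  src := glueMat_src K f DD pr s hps q₁ q₂ hq
  tgt := glueMat_tgt K f DD pr s hps q₁ q₂ hq
  cocycle := by
    have e : ∀ p : Y₃ ⟶ Y₂, (p ≫ q₁) ≫ f = (p ≫ q₂) ≫ f := fun p => by rw [Category.assoc, hq, Category.assoc]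
    have e₂ : (p₁₂ ≫ q₂) ≫ f = (p₁₃ ≫ q₂) ≫ f := by rw [h21, h22, e]
    rw [glueMat_map K f DD pr s hps p₁₂ q₁ q₂ hq _ _ rfl rfl (e p₁₂),
      glueMat_map K f DD pr s hps p₂₃ q₁ q₂ hq _ _ h21.symm h22.symm e₂,
      glueMat_map K f DD pr s hps p₁₃ q₁ q₂ hq _ _ h11.symm rfl ((e p₁₂).trans e₂),
      glueMat_comp K f DD pr s hps]
  diag := by
    rw [glueMat_map K f DD pr s hps μ q₁ q₂ hq (𝟙 X) (𝟙 X) hμ₁ hμ₂ rfl, glueMat_self]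
    ext i j
    simp

end Groth.Agent.CAlg8.WittDescent

namespace Groth.Agent.CAlg8.WittDescent

/-- Transport of effectivity along an equality of pseudofunctors. -/
theorem effective_transport {D : Type v} [Category.{w} D]
    (F G : Pseudofunctor (LocallyDiscrete Dᵒᵖ) Cat.{u, u+1}) (e : F = G) {S X : D} (f : X ⟶ S)
    (PM : F.obj (.mk (op S)) → Prop) (PM' : G.obj (.mk (op S)) → Prop) (hPM : HEq PM PM')
    (PD : F.obj (.mk (op X)) → Prop) (PD' : G.obj (.mk (op X)) → Prop) (hPD : HEq PD PD')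
    (H : ∀ DD : F.DescentData (fun _ : PUnit.{t + 1} => f), PD (DD.obj PUnit.unit) →
      ∃ M, PM M ∧ Nonempty ((F.toDescentData (fun _ : PUnit.{t + 1} => f)).obj M ≅ DD))
    (DD : G.DescentData (fun _ : PUnit.{t + 1} => f)) (hDD : PD' (DD.obj PUnit.unit)) :
    ∃ M, PM' M ∧ Nonempty ((G.toDescentData (fun _ : PUnit.{t + 1} => f)).obj M ≅ DD) := by
  subst e
  obtain rfl := eq_of_heq hPM
  obtain rfl := eq_of_heq hPD
  exact H DD hDD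

end Groth.Agent.CAlg8.WittDescent
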