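import Mathlib
import Groth.Prelude.Def_WittGrp
import Groth.Agent.CAlg8.WittEqualizer

/-! The graded pieces of the filtration of truncated Witt vectors. -/

set_option autoImplicit false

universe u

namespace Groth.Agent.CAlg8.WittDescent

open WittVector

variable {p : ℕ} [hp : Fact p.Prime] {T : Type u} [CommRing T] {n : ℕ}

theorem verschiebung_iterate_mul (k : ℕ) (x y : WittVector p T) :
    (verschiebung)^[k] x * y = (verschiebung)^[k] (x * (frobenius)^[k] y) := by
  induction k generalizing y with
  | zero => rfl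
  | succ k ih =>
    rw [Function.iterate_succ_apply', Function.iterate_succ_apply', ← verschiebung_mul_frobenius, ih,
      ← Function.iterate_succ_apply]

theorem coeff_zero_frobenius_iterate (k : ℕ) (y : WittVector p T) :
    ((frobenius)^[k] y).coeff 0 = ghostComponent k y := by
  induction k generalizing y with
  | zero => simp [ghostComponent_apply]
  | succ k ih => rw [Function.iterate_succ_apply, ih, ghostComponent_frobenius]

theorem mul_coeff_of_low {k : ℕ} {x : WittVector p T} (hx : ∀ i < k, x.coeff i = 0) (y : WittVector p T) :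
    (x * y).coeff k = x.coeff k * ghostComponent k y := by
  obtain ⟨z, hz⟩ : ∃ z, (verschiebung)^[k] z = x := by
    refine ⟨WittVector.mk p fun i => x.coeff (i + k), WittVector.ext fun i => ?_⟩
    by_cases hi : i < k
    · rw [hx i hi, iterate_verschiebung_coeff_eq_zero _ hi]
    · obtain ⟨j, rfl⟩ := Nat.exists_eq_add_of_le' (not_lt.1 hi)
      rw [iterate_verschiebung_coeff, coeff_mk]
  rw [← hz, verschiebung_iterate_mul]
  have h1 : ∀ w : WittVector p T, ((verschiebung)^[k] w).coeff k = w.coeff 0 := fun w => by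
    have := iterate_verschiebung_coeff w k 0
    rwa [zero_add] at this
  rw [h1, h1, mul_coeff_zero, coeff_zero_frobenius_iterate]

theorem add_coeff_of_low {k : ℕ} {x y : WittVector p T} (hx : ∀ i < k, x.coeff i = 0)
    (hy : ∀ i < k, y.coeff i = 0) : (x + y).coeff k = x.coeff k + y.coeff k := by
  have h0 : ∀ {x : WittVector p T}, (∀ i < k, x.coeff i = 0) → ∃ z, (verschiebung)^[k] z = x := by
    intro x hx
    refine ⟨WittVector.mk p fun i => x.coeff (i + k), WittVector.ext fun i => ?_⟩
    by_cases hi : i < k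
    · rw [hx i hi, iterate_verschiebung_coeff_eq_zero _ hi]
    · obtain ⟨j, rfl⟩ := Nat.exists_eq_add_of_le' (not_lt.1 hi)
      rw [iterate_verschiebung_coeff, coeff_mk]
  obtain ⟨a, ha⟩ := h0 hx
  obtain ⟨b, hb⟩ := h0 hy
  have h1 : ∀ w : WittVector p T, ((verschiebung)^[k] w).coeff k = w.coeff 0 := fun w => by
    have := iterate_verschiebung_coeff w k 0
    rwa [zero_add] at this
  have hadd : (verschiebung)^[k] (a + b) = (verschiebung)^[k] a + (verschiebung)^[k] b :=
    iterate_map_add verschiebung k a b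
  rw [← ha, ← hb, ← hadd, h1, h1, h1, add_coeff_zero]

/-- The ideal of truncated Witt vectors whose first `k` components vanish. -/
noncomputable def J (p : ℕ) [Fact p.Prime] (n k : ℕ) (T : Type u) [CommRing T] :
    Ideal (TruncatedWittVector p n T) :=
  (RingHom.ker (WittVector.truncate (p := p) (R := T) k)).map (WittVector.truncate n)

theorem mem_J_iff {k : ℕ} {x : TruncatedWittVector p n T} :
    x ∈ J p n k T ↔ ∀ i : Fin n, (i : ℕ) < k → x.coeff i = 0 := by
  constructor
  · intro hx
    obtain ⟨y, hy, rfl⟩ := (Ideal.mem_map_iff_of_surjective _ (truncate_surjective p n T)).mp hx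
    intro i hi
    rw [coeff_truncate]
    exact (mem_ker_truncate _ _).mp hy i hi
  · intro h
    refine (Ideal.mem_map_iff_of_surjective _ (truncate_surjective p n T)).mpr
      ⟨WittVector.mk p fun i => if hi : i < n then x.coeff ⟨i, hi⟩ else 0, ?_, ?_⟩
    · rw [mem_ker_truncate]
      intro i hi
      rw [coeff_mk]
      split
      · exact h _ hi
      · rfl
    · ext i
      rw [coeff_truncate, coeff_mk, dif_pos i.2]

theorem J_zero : J p n 0 T = ⊤ := eq_top_iff.mpr fun _ _ => mem_J_iff.mpr fun _ h => absurd h (Nat.not_lt_zero _)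

theorem J_self_eq_bot : J p n n T = ⊥ :=
  eq_bot_iff.mpr fun x hx => TruncatedWittVector.ext fun i => by
    rw [mem_J_iff.mp hx i i.2, TruncatedWittVector.coeff_zero]

theorem J_antitone {k k' : ℕ} (h : k ≤ k') : J p n k' T ≤ J p n k T := fun _ hx =>
  mem_J_iff.mpr fun i hi => mem_J_iff.mp hx i (lt_of_lt_of_le hi h)

theorem mem_J_succ_iff (k : Fin n) {x : TruncatedWittVector p n T} :
    x ∈ J p n ((k : ℕ) + 1) T ↔ x ∈ J p n k T ∧ x.coeff k = 0 := by
  simp only [mem_J_iff]
  refine ⟨fun h => ⟨fun i hi => h i (Nat.lt_succ_of_lt hi), h k (Nat.lt_succ_self _)⟩, fun h i hi => ?_⟩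
  rcases Nat.lt_succ_iff_lt_or_eq.mp hi with hlt | heq
  · exact h.1 i hlt
  · rw [show i = k from Fin.ext heq]; exact h.2

theorem ker_truncate_le_ker_ghost (k : Fin n) :
    RingHom.ker (WittVector.truncate (p := p) (R := T) n) ≤ RingHom.ker (ghostComponent (p := p) (R := T) k) := by
  intro x hx
  rw [mem_ker_truncate] at hx
  rw [RingHom.mem_ker, ghostComponent_apply, aeval_wittPolynomial]
  refine Finset.sum_eq_zero fun i hi => ?_
  rw [Finset.mem_range] at hi
  rw [hx i (by omega), zero_pow (pow_ne_zero _ hp.out.ne_zero), mul_zero]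

/-- The `k`-th ghost component on truncated Witt vectors of length `n > k`. -/
noncomputable def wk (k : Fin n) : TruncatedWittVector p n T →+* T :=
  RingHom.liftOfSurjective (WittVector.truncate n) (truncate_surjective p n T)
    ⟨ghostComponent k, ker_truncate_le_ker_ghost k⟩

theorem wk_truncate (k : Fin n) (x : WittVector p T) : wk k (WittVector.truncate n x) = ghostComponent k x := by
  simp only [wk]
  exact RingHom.liftOfRightInverse_comp_apply _ _ _ _ _

theorem wk_zero {m : ℕ} (x : TruncatedWittVector p (m + 1) T) : wk 0 x = x.coeff 0 := by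
  obtain ⟨y, rfl⟩ := truncate_surjective p (m + 1) T x
  rw [wk_truncate, coeff_truncate]
  simp [ghostComponent_apply]

theorem wk_truncMap {T' : Type u} [CommRing T'] (f : T →+* T') (k : Fin n) (x : TruncatedWittVector p n T) :
    wk k (WittGrp.truncMap p n f x) = f (wk k x) := by
  obtain ⟨y, rfl⟩ := truncate_surjective p n T x
  change wk k (WittGrp.truncMapFun p n f _) = _
  rw [WittGrp.truncMapFun_truncate, wk_truncate, wk_truncate]
  simp only [ghostComponent_apply, aeval_wittPolynomial, map_sum, map_mul, map_pow, map_natCast, map_coeff]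

theorem truncMap_mem_J {T' : Type u} [CommRing T'] (f : T →+* T') {k : ℕ} {x : TruncatedWittVector p n T}
    (hx : x ∈ J p n k T) : WittGrp.truncMap p n f x ∈ J p n k T' :=
  mem_J_iff.mpr fun i hi => by rw [truncMap_coeff, mem_J_iff.mp hx i hi, map_zero]

theorem exists_lift_of_mem_J {k : ℕ} {x : TruncatedWittVector p n T} (hx : x ∈ J p n k T) :
    ∃ a : WittVector p T, WittVector.truncate n a = x ∧ ∀ i < k, a.coeff i = 0 := by
  obtain ⟨a, ha, rfl⟩ := (Ideal.mem_map_iff_of_surjective _ (truncate_surjective p n T)).mp hx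
  exact ⟨a, rfl, (mem_ker_truncate _ _).mp ha⟩

theorem coeff_mul_of_mem_J (k : Fin n) {x : TruncatedWittVector p n T} (hx : x ∈ J p n k T)
    (a : TruncatedWittVector p n T) : (a * x).coeff k = wk k a * x.coeff k := by
  obtain ⟨X, rfl, hX⟩ := exists_lift_of_mem_J hx
  obtain ⟨A, rfl⟩ := truncate_surjective p n T a
  rw [← map_mul, coeff_truncate, coeff_truncate, wk_truncate, mul_comm, mul_coeff_of_low hX, mul_comm]

theorem coeff_add_of_mem_J (k : Fin n) {x y : TruncatedWittVector p n T} (hx : x ∈ J p n k T)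
    (hy : y ∈ J p n k T) : (x + y).coeff k = x.coeff k + y.coeff k := by
  obtain ⟨X, rfl, hX⟩ := exists_lift_of_mem_J hx
  obtain ⟨Y, rfl, hY⟩ := exists_lift_of_mem_J hy
  rw [← map_add, coeff_truncate, coeff_truncate, coeff_truncate, add_coeff_of_low hX hY]

theorem coeff_sub_of_mem_J (k : Fin n) {x y : TruncatedWittVector p n T} (hx : x ∈ J p n k T)
    (hy : y ∈ J p n k T) : (x - y).coeff k = x.coeff k - y.coeff k := by
  rw [eq_sub_iff_add_eq, ← coeff_add_of_mem_J k (sub_mem hx hy) hy, sub_add_cancel]

theorem coeff_sum_of_mem_J (k : Fin n) {ι : Type*} (s : Finset ι) {x : ι → TruncatedWittVector p n T}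
    (hx : ∀ i, x i ∈ J p n k T) : (∑ i ∈ s, x i).coeff k = ∑ i ∈ s, (x i).coeff k := by
  induction s using Finset.cons_induction with
  | empty => rw [Finset.sum_empty, Finset.sum_empty, TruncatedWittVector.coeff_zero]
  | cons a s ha ih =>
    rw [Finset.sum_cons, Finset.sum_cons, coeff_add_of_mem_J k (hx a) (sum_mem fun i _ => hx i), ih]

theorem exists_mem_J_coeff (k : Fin n) (t : T) : ∃ x ∈ J p n k T, x.coeff k = t := by
  refine ⟨TruncatedWittVector.mk p fun i => if i = k then t else 0, mem_J_iff.mpr fun i hi => ?_, ?_⟩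
  · rw [TruncatedWittVector.coeff_mk, if_neg]
    intro h
    subst h
    exact lt_irrefl _ hi
  · rw [TruncatedWittVector.coeff_mk, if_pos rfl]

theorem mulVec_mem_J {k : ℕ} {ι κ : Type*} [Fintype κ] (A : Matrix ι κ (TruncatedWittVector p n T))
    {x : κ → TruncatedWittVector p n T} (hx : ∀ i, x i ∈ J p n k T) (i : ι) : A.mulVec x i ∈ J p n k T :=
  sum_mem fun j _ => Ideal.mul_mem_left _ _ (hx j)

theorem coeff_mulVec (k : Fin n) {ι κ : Type*} [Fintype κ] (A : Matrix ι κ (TruncatedWittVector p n T))
    {x : κ → TruncatedWittVector p n T} (hx : ∀ i, x i ∈ J p n k T) (i : ι) :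
    (A.mulVec x i).coeff k = (A.map (wk k)).mulVec (fun j => (x j).coeff k) i := by
  change (∑ j, A i j * x j).coeff k = ∑ j, wk k (A i j) * (x j).coeff k
  rw [coeff_sum_of_mem_J k _ fun j => Ideal.mul_mem_left _ _ (hx j)]
  exact Finset.sum_congr rfl fun j _ => coeff_mul_of_mem_J k (hx j) _

end Groth.Agent.CAlg8.WittDescent
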