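import Mathlib
import Groth.Agent.CAlg8.Witt
import Groth.Agent.CAlg8.WittFilt
import Groth.Agent.CAlg8.NilLiftProj
import Groth.Agent.CAlg8.WittDescent.Graded
import Groth.Agent.CAlg8.WittDescent.Linear

/-! Effectivity of descent data on finite projective modules over truncated Witt vectors, in coordinates. -/

set_option autoImplicit false

universe u

open TensorProduct
open scoped Matrix

namespace Groth.Agent.CAlg8.WittDescent

variable {p : ℕ} [Fact p.Prime] {m : ℕ} {R S : Type u} [CommRing R] [CommRing S] [Algebra R S]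
  {ι : Type} [Fintype ι] [DecidableEq ι]

/-- `W_m` of an algebra map. -/
noncomputable abbrev Wf (p : ℕ) [Fact p.Prime] (m : ℕ) {A B : Type u} [CommRing A] [CommRing B] [Algebra R A]
    [Algebra R B] (f : A →ₐ[R] B) : TruncatedWittVector p m A →+* TruncatedWittVector p m B :=
  WittGrp.truncMap p m f.toRingHom

/-- A descent datum over truncated Witt vectors, in coordinates. -/
abbrev WDatum (P : Matrix ι ι (TruncatedWittVector p m S))
    (G : Matrix ι ι (TruncatedWittVector p m (S ⊗[R] S))) : Prop :=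
  IsDatum (Wf p m (q1 R S)) (Wf p m (q2 R S)) (Wf p m (p12 R S)) (Wf p m (p13 R S)) (Wf p m (p23 R S))
    (Wf p m (mu R S)) P G

theorem WDatum.graded {P : Matrix ι ι (TruncatedWittVector p m S)}
    {G : Matrix ι ι (TruncatedWittVector p m (S ⊗[R] S))} (H : WDatum P G) (k : Fin m) :
    LinDatum (P.map (wk k)) (G.map (wk k)) :=
  H.map (wk k) (wk k) (wk k) (fun a => (wk_truncMap _ k a).symm) (fun a => (wk_truncMap _ k a).symm)
    (fun a => (wk_truncMap _ k a).symm) (fun a => (wk_truncMap _ k a).symm) (fun a => (wk_truncMap _ k a).symm)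
    (fun a => (wk_truncMap _ k a).symm)

theorem Wf_comp {A B C : Type u} [CommRing A] [CommRing B] [CommRing C] [Algebra R A] [Algebra R B] [Algebra R C]
    (f : A →ₐ[R] B) (g : B →ₐ[R] C) (f' : A →ₐ[R] C) (h : ∀ a, g (f a) = f' a) (x : TruncatedWittVector p m A) :
    Wf p m g (Wf p m f x) = Wf p m f' x := by
  ext i
  simp only [truncMap_coeff]
  exact h _

/-- `G (q₁ x) - q₂ x`. -/
noncomputable def wdefect (G : Matrix ι ι (TruncatedWittVector p m (S ⊗[R] S)))
    (x : ι → TruncatedWittVector p m S) : ι → TruncatedWittVector p m (S ⊗[R] S) :=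
  G *ᵥ (Wf p m (q1 R S) ∘ x) - Wf p m (q2 R S) ∘ x

omit [DecidableEq ι] in
theorem wdefect_add (G : Matrix ι ι (TruncatedWittVector p m (S ⊗[R] S)))
    (x y : ι → TruncatedWittVector p m S) : wdefect G (x + y) = wdefect G x + wdefect G y := by
  have h : ∀ f : TruncatedWittVector p m S →+* TruncatedWittVector p m (S ⊗[R] S), f ∘ (x + y) = f ∘ x + f ∘ y :=
    fun f => funext fun i => map_add f _ _
  rw [wdefect, wdefect, wdefect, h, h, Matrix.mulVec_add]
  abel

omit [DecidableEq ι] in
theorem wdefect_sub (G : Matrix ι ι (TruncatedWittVector p m (S ⊗[R] S)))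
    (x y : ι → TruncatedWittVector p m S) : wdefect G (x - y) = wdefect G x - wdefect G y := by
  rw [eq_sub_iff_add_eq, ← wdefect_add, sub_add_cancel]

theorem exists_step [Module.FaithfullyFlat R S] {P : Matrix ι ι (TruncatedWittVector p m S)}
    {G : Matrix ι ι (TruncatedWittVector p m (S ⊗[R] S))} (H : WDatum P G) (k : Fin m)
    (x : ι → TruncatedWittVector p m S) (hx : P *ᵥ x = x) (hd : ∀ i, wdefect G x i ∈ J p m k (S ⊗[R] S)) :
    ∃ x', P *ᵥ x' = x' ∧ (∀ i, x' i - x i ∈ J p m k S) ∧
      ∀ i, wdefect G x' i ∈ J p m ((k : ℕ) + 1) (S ⊗[R] S) := by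
  set z := wdefect G x with hz
  let zk : ι → S ⊗[R] S := fun i => (z i).coeff k
  have hqf : ∀ a, Wf p m (p12 R S) (Wf p m (q2 R S) a) = Wf p m (p23 R S) (Wf p m (q1 R S) a) := fun a => by
    rw [Wf_comp _ _ ((p23 R S).comp (q1 R S)) (p12_q2 R S), Wf_comp _ _ ((p23 R S).comp (q1 R S)) fun _ => rfl]
  have hqg : ∀ a, Wf p m (p13 R S) (Wf p m (q2 R S) a) = Wf p m (p23 R S) (Wf p m (q2 R S) a) := fun a => by
    rw [Wf_comp _ _ ((p23 R S).comp (q2 R S)) (p13_q2 R S), Wf_comp _ _ ((p23 R S).comp (q2 R S)) fun _ => rfl]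
  have hqh : ∀ a, Wf p m (p12 R S) (Wf p m (q1 R S) a) = Wf p m (p13 R S) (Wf p m (q1 R S) a) := fun a => by
    rw [Wf_comp _ _ ((p13 R S).comp (q1 R S)) (p12_q1 R S), Wf_comp _ _ ((p13 R S).comp (q1 R S)) fun _ => rfl]
  have hsub : ∀ (f : TruncatedWittVector p m (S ⊗[R] S) →+* TruncatedWittVector p m (S ⊗[R] (S ⊗[R] S))),
      f ∘ z = G.map f *ᵥ (f ∘ Wf p m (q1 R S) ∘ x) - f ∘ Wf p m (q2 R S) ∘ x := fun f => by
    funext i
    simp only [hz, wdefect, Function.comp_apply, Pi.sub_apply, map_sub, RingHom.map_mulVec]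
  have hWq2P : P.map (Wf p m (q2 R S)) *ᵥ (Wf p m (q2 R S) ∘ x) = Wf p m (q2 R S) ∘ x := by
    rw [← comp_mulVec, hx]
  have hfix : P.map (Wf p m (q2 R S)) *ᵥ z = z := by
    rw [hz, wdefect, Matrix.mulVec_sub, Matrix.mulVec_mulVec, H.tgt, hWq2P]
  have hcoc : G.map (Wf p m (p23 R S)) *ᵥ (Wf p m (p12 R S) ∘ z) + Wf p m (p23 R S) ∘ z =
      Wf p m (p13 R S) ∘ z := by
    rw [hsub, hsub, hsub, Matrix.mulVec_sub, Matrix.mulVec_mulVec, H.cocycle,
      show (Wf p m (p12 R S) ∘ Wf p m (q1 R S) ∘ x) = Wf p m (p13 R S) ∘ Wf p m (q1 R S) ∘ x from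
        funext fun i => hqh _,
      show (Wf p m (p12 R S) ∘ Wf p m (q2 R S) ∘ x) = Wf p m (p23 R S) ∘ Wf p m (q1 R S) ∘ x from
        funext fun i => hqf _,
      show (Wf p m (p13 R S) ∘ Wf p m (q2 R S) ∘ x) = Wf p m (p23 R S) ∘ Wf p m (q2 R S) ∘ x from
        funext fun i => hqg _]
    abel
  obtain ⟨y, hy, hyz⟩ := (H.graded k).exists_coboundary zk (by
    funext i
    have h1 := congrArg (fun v => (v i).coeff k) hfix
    rw [coeff_mulVec k _ hd] at h1
    refine Eq.trans ?_ h1
    rw [map_map_comp (Wf p m (q2 R S)) (wk k) ((q2 R S).toRingHom.comp (wk k)) (fun a => wk_truncMap _ k a),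
      ← map_map_comp (wk k) (q2 R S).toRingHom ((q2 R S).toRingHom.comp (wk k)) (fun _ => rfl)]
    rfl) (by
    funext i
    have h1 := congrArg (fun v => (v i).coeff k) hcoc
    have hd12 : ∀ j, (Wf p m (p12 R S) ∘ z) j ∈ J p m k _ := fun j => truncMap_mem_J _ (hd j)
    simp only [Pi.add_apply] at h1
    rw [coeff_add_of_mem_J (x := (G.map (Wf p m (p23 R S)) *ᵥ (Wf p m (p12 R S) ∘ z)) i)
        (y := (Wf p m (p23 R S) ∘ z) i) k (mulVec_mem_J _ hd12 i) (truncMap_mem_J _ (hd i)),
      coeff_mulVec k _ hd12] at h1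
    simp only [Function.comp_apply, truncMap_coeff] at h1
    refine Eq.trans ?_ h1
    rw [map_map_comp (Wf p m (p23 R S)) (wk k) ((p23 R S).toRingHom.comp (wk k)) (fun a => wk_truncMap _ k a),
      ← map_map_comp (wk k) (p23 R S).toRingHom ((p23 R S).toRingHom.comp (wk k)) (fun _ => rfl)]
    rfl)
  choose Y hY hYc using fun i => exists_mem_J_coeff (p := p) k (y i)
  have hPY : ∀ i, (P *ᵥ Y) i ∈ J p m k S := mulVec_mem_J P hY
  have hPYc : ∀ i, ((P *ᵥ Y) i).coeff k = y i := fun i => by
    rw [coeff_mulVec k P hY i, show (fun j => (Y j).coeff k) = y from funext hYc, hy]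
  refine ⟨x - P *ᵥ Y, by rw [Matrix.mulVec_sub, hx, Matrix.mulVec_mulVec, H.idem],
    fun i => by simpa using neg_mem (hPY i), fun i => ?_⟩
  have h1 : ∀ i, (Wf p m (q1 R S) ∘ (P *ᵥ Y)) i ∈ J p m k _ := fun i => truncMap_mem_J _ (hPY i)
  have h2 : (Wf p m (q2 R S) ∘ (P *ᵥ Y)) i ∈ J p m k _ := truncMap_mem_J _ (hPY i)
  have h3 : wdefect G (P *ᵥ Y) i ∈ J p m k _ := sub_mem (mulVec_mem_J G h1 i) h2
  rw [wdefect_sub, Pi.sub_apply, mem_J_succ_iff]
  refine ⟨sub_mem (hd i) h3, ?_⟩
  rw [coeff_sub_of_mem_J k (hd i) h3, sub_eq_zero]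
  change zk i = _
  rw [← hyz, wdefect]
  simp only [Pi.sub_apply]
  rw [coeff_sub_of_mem_J k (mulVec_mem_J G h1 i) h2, coeff_mulVec k G h1]
  simp only [Function.comp_def, truncMap_coeff, hPYc]
  rfl

theorem exists_invariant [Module.FaithfullyFlat R S] {P : Matrix ι ι (TruncatedWittVector p m S)}
    {G : Matrix ι ι (TruncatedWittVector p m (S ⊗[R] S))} (H : WDatum P G) :
    ∀ (d k : ℕ), k + d = m → ∀ x : ι → TruncatedWittVector p m S, P *ᵥ x = x →
      (∀ i, wdefect G x i ∈ J p m k (S ⊗[R] S)) →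
      ∃ x', P *ᵥ x' = x' ∧ (∀ i, x' i - x i ∈ J p m k S) ∧ wdefect G x' = 0 := by
  intro d
  induction d with
  | zero =>
    intro k hk x hx hd
    rw [add_zero] at hk
    subst hk
    exact ⟨x, hx, fun i => by simp, funext fun i => by
      have := hd i; rw [J_self_eq_bot, Ideal.mem_bot] at this; exact this⟩
  | succ d ih =>
    intro k hk x hx hd
    obtain ⟨x₁, hx₁, hd₁, hk₁⟩ := exists_step H ⟨k, by omega⟩ x hx hd
    obtain ⟨x', hx', hd', hfin⟩ := ih (k + 1) (by omega) x₁ hx₁ hk₁
    refine ⟨x', hx', fun i => ?_, hfin⟩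
    have := add_mem (J_antitone (Nat.le_succ k) (hd' i)) (hd₁ i)
    simpa using this

section Effective

variable {n : ℕ} [Algebra (TruncatedWittVector p (n + 1) R) (TruncatedWittVector p (n + 1) S)]
  (halg : algebraMap (TruncatedWittVector p (n + 1) R) (TruncatedWittVector p (n + 1) S) =
    WittGrp.truncMap p (n + 1) (algebraMap R S))
  {P : Matrix ι ι (TruncatedWittVector p (n + 1) S)}
  {G : Matrix ι ι (TruncatedWittVector p (n + 1) (S ⊗[R] S))}

theorem wk_zero_surjective {T : Type u} [CommRing T] :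
    Function.Surjective (wk (p := p) (T := T) (0 : Fin (n + 1))) := fun t => by
  obtain ⟨x, -, hx⟩ := exists_mem_J_coeff (p := p) (0 : Fin (n + 1)) t
  exact ⟨x, by rw [wk_zero, hx]⟩

theorem ker_wk_zero {T : Type u} [CommRing T] :
    RingHom.ker (wk (p := p) (T := T) (0 : Fin (n + 1))) = J p (n + 1) 1 T := by
  ext x
  rw [RingHom.mem_ker, wk_zero]
  refine Iff.trans ?_ (mem_J_succ_iff (0 : Fin (n + 1))).symm
  simp [J_zero]

theorem exists_J_one_pow_eq_bot {T : Type u} [CommRing T] (hT : IsNilpotent (p : T)) :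
    ∃ a, J p (n + 1) 1 T ^ a = ⊥ := by
  obtain ⟨a, ha⟩ := WittFilt.exists_pow_le (p := p) hT (n + 1)
  refine ⟨a, eq_bot_iff.mpr ?_⟩
  rw [J, ← Ideal.map_pow, ← J_self_eq_bot (p := p) (n := n + 1) (T := T)]
  exact Ideal.map_mono ha

/-- The invariant vectors. -/
noncomputable def wInvariants (halg : algebraMap (TruncatedWittVector p (n + 1) R) (TruncatedWittVector p (n + 1) S) =
      WittGrp.truncMap p (n + 1) (algebraMap R S))
    (P : Matrix ι ι (TruncatedWittVector p (n + 1) S))
    (G : Matrix ι ι (TruncatedWittVector p (n + 1) (S ⊗[R] S))) :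
    Submodule (TruncatedWittVector p (n + 1) R) (ι → TruncatedWittVector p (n + 1) S) where
  carrier := {x | P *ᵥ x = x ∧ wdefect G x = 0}
  zero_mem' := ⟨Matrix.mulVec_zero P, by
    have := wdefect_sub G 0 0
    rwa [sub_self, sub_self] at this⟩
  add_mem' {x y} hx hy := ⟨by rw [Matrix.mulVec_add, hx.1, hy.1], by rw [wdefect_add, hx.2, hy.2, add_zero]⟩
  smul_mem' r x hx := by
    refine ⟨by rw [Matrix.mulVec_smul, hx.1], ?_⟩
    have e : ∀ f : S →ₐ[R] S ⊗[R] S, Wf p (n + 1) f ∘ (r • x) =
        WittGrp.truncMap p (n + 1) (algebraMap R (S ⊗[R] S)) r • (Wf p (n + 1) f ∘ x) := fun f => funext fun i => by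
      simp only [Function.comp_apply, Pi.smul_apply, smul_eq_mul]
      rw [Algebra.smul_def, halg, map_mul]
      congr 1
      ext j
      simp only [truncMap_coeff]
      exact f.commutes _
    rw [wdefect, e, e, Matrix.mulVec_smul, ← smul_sub, ← wdefect, hx.2, smul_zero]

include halg in
set_option maxHeartbeats 1000000 in
/-- Effectivity, in coordinates. -/
theorem exists_effective [Module.FaithfullyFlat R S] (hp : IsNilpotent (p : R)) (H : WDatum P G) :
    ∃ (M : Type u) (_ : AddCommGroup M) (_ : Module (TruncatedWittVector p (n + 1) R) M),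
      Module.Finite (TruncatedWittVector p (n + 1) R) M ∧ Module.Projective (TruncatedWittVector p (n + 1) R) M ∧
        ∃ f : M →ₗ[TruncatedWittVector p (n + 1) R] (ι → TruncatedWittVector p (n + 1) S),
          (∀ a, G *ᵥ (Wf p (n + 1) (q1 R S) ∘ f a) = Wf p (n + 1) (q2 R S) ∘ f a) ∧
          Function.Injective (f.liftBaseChange (TruncatedWittVector p (n + 1) S)) ∧
          LinearMap.range (f.liftBaseChange (TruncatedWittVector p (n + 1) S)) = LinearMap.range P.mulVecLin := by
  classical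
  have hpS : IsNilpotent (p : S) := by simpa using hp.map (algebraMap R S)
  obtain ⟨aR, haR⟩ := exists_J_one_pow_eq_bot (p := p) (n := n) hp
  obtain ⟨aS, haS⟩ := exists_J_one_pow_eq_bot (p := p) (n := n) hpS
  set H0 := H.graded 0
  let N := invariants (R := R) (P.map (wk 0)) (G.map (wk 0))
  obtain ⟨hNf, hNp⟩ := invariants_finite_projective H0
  algebraize_only [wk (p := p) (T := R) (0 : Fin (n + 1))]
  let _ : Module (TruncatedWittVector p (n + 1) R) N := Module.compHom N (wk (0 : Fin (n + 1)))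
  have : IsScalarTower (TruncatedWittVector p (n + 1) R) R N := ⟨fun a b c => mul_smul (wk 0 a) b c⟩
  obtain ⟨M, _, _, hMf, hMp, q, hq, hqk⟩ := NilLiftProj.exists_lift (R := TruncatedWittVector p (n + 1) R) (S := R)
    wk_zero_surjective ⟨aR, by
      change (RingHom.ker (wk (p := p) (T := R) (0 : Fin (n + 1)))) ^ aR = 0
      rw [ker_wk_zero]; exact haR⟩ N
  -- reduction of invariant vectors
  let Inv := wInvariants halg P G
  have hred : ∀ x : Inv, (wk 0 ∘ (x : ι → TruncatedWittVector p (n + 1) S)) ∈ N := fun x => by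
    rw [mem_invariants]
    refine ⟨?_, ?_⟩
    · have h := congrArg (wk (0 : Fin (n + 1)) ∘ ·) (sub_eq_zero.mp x.2.2)
      simp only [comp_mulVec] at h
      refine Eq.trans ?_ (h.trans ?_)
      · congr 1; exact funext fun i => (wk_truncMap (q1 R S).toRingHom 0 _).symm
      · exact funext fun i => wk_truncMap (q2 R S).toRingHom 0 _
    · rw [← comp_mulVec, x.2.1]
  let ρ : Inv →ₗ[TruncatedWittVector p (n + 1) R] N :=
    { toFun := fun x => ⟨_, hred x⟩
      map_add' := fun x y => Subtype.ext (funext fun i => map_add (wk 0) _ _)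
      map_smul' := fun r x => Subtype.ext (funext fun i => by
        rw [RingHom.id_apply, ← algebraMap_smul R r (⟨_, hred x⟩ : N)]
        simp only [SetLike.val_smul, Pi.smul_apply, Function.comp_apply]
        rw [Algebra.smul_def r, map_mul, halg, wk_truncMap, Algebra.smul_def (algebraMap _ R r)]
        rfl) }
  have hρ : Function.Surjective ρ := by
    rintro ⟨v, hv⟩
    rw [mem_invariants] at hv
    choose x₀ hx₀ using fun i => wk_zero_surjective (p := p) (n := n) (v i)
    have hPx : wk 0 ∘ (P *ᵥ x₀) = v := by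
      rw [comp_mulVec, show (wk (0 : Fin (n + 1)) ∘ x₀) = v from funext hx₀]; exact hv.2
    obtain ⟨x, hx, hxk, hxd⟩ := exists_invariant H n 1 (Nat.add_comm 1 n) (P *ᵥ x₀)
      (by rw [Matrix.mulVec_mulVec, H.idem]) (fun i => by
        rw [← ker_wk_zero, RingHom.mem_ker, wdefect, Pi.sub_apply, map_sub, RingHom.map_mulVec, sub_eq_zero]
        have e1 : wk (0 : Fin (n + 1)) ∘ (Wf p (n + 1) (q1 R S) ∘ (P *ᵥ x₀)) = q1 R S ∘ v := by
          rw [← hPx]; exact funext fun j => wk_truncMap _ 0 _
        rw [e1, hv.1, Function.comp_apply, Function.comp_apply, wk_truncMap]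
        exact congrArg (q2 R S) (congrFun hPx i).symm)
    refine ⟨⟨x, hx, hxd⟩, Subtype.ext (funext fun i => ?_)⟩
    change wk 0 (x i) = v i
    have := hxk i
    rw [← ker_wk_zero, RingHom.mem_ker, map_sub, sub_eq_zero] at this
    rw [this]
    exact congrFun hPx i
  obtain ⟨f₀, hf₀⟩ := Module.projective_lifting_property ρ q hρ
  let f : M →ₗ[TruncatedWittVector p (n + 1) R] ι → TruncatedWittVector p (n + 1) S := Inv.subtype ∘ₗ f₀
  have hfq : ∀ a i, wk 0 (f a i) = (q a : ι → S) i := fun a i =>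
    congrFun (congrArg Subtype.val (LinearMap.congr_fun hf₀ a)) i
  set g := f.liftBaseChange (TruncatedWittVector p (n + 1) S)
  have hgt : ∀ s a, g (s ⊗ₜ a) = s • f a := fun s a => by simp [g]
  refine ⟨M, inferInstance, inferInstance, hMf, hMp, f, fun a => sub_eq_zero.mp (f₀ a).2.2, ?_⟩
  set V := LinearMap.range P.mulVecLin
  have hgP : ∀ t, P *ᵥ g t = g t := fun t => by
    induction t using TensorProduct.induction_on with
    | zero => simp
    | tmul s a => rw [hgt, Matrix.mulVec_smul]; exact congrArg _ (f₀ a).2.1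
    | add x y hx hy => rw [map_add, Matrix.mulVec_add, hx, hy]
  have hgV : LinearMap.range g ≤ V := by
    rintro _ ⟨t, rfl⟩
    exact ⟨g t, hgP t⟩
  have hfixV : ∀ v ∈ V, P *ᵥ v = v := by
    rintro _ ⟨w, rfl⟩
    rw [Matrix.mulVecLin_apply, Matrix.mulVec_mulVec, H.idem]
  -- surjectivity
  have hstep : V ≤ LinearMap.range g ⊔ J p (n + 1) 1 S • V := by
    intro v hv
    have hv' : wk (0 : Fin (n + 1)) ∘ v ∈ LinearMap.range (canMap (R := R) (P.map (wk 0)) (G.map (wk 0))) := by
      rw [range_canMap H0]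
      exact ⟨wk 0 ∘ v, by rw [Matrix.mulVecLin_apply, ← comp_mulVec, hfixV v hv]⟩
    obtain ⟨z, hz⟩ := hv'
    have hlift : ∀ z, ∃ t, wk (0 : Fin (n + 1)) ∘ g t = canMap (R := R) (P.map (wk 0)) (G.map (wk 0)) z := by
      intro z
      induction z using TensorProduct.induction_on with
      | zero => exact ⟨0, funext fun i => by simp⟩
      | tmul s w =>
        obtain ⟨a, rfl⟩ := hq w
        obtain ⟨s', rfl⟩ := wk_zero_surjective (p := p) (n := n) s
        refine ⟨s' ⊗ₜ a, funext fun i => ?_⟩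
        simp [hgt, canMap, hfq]
      | add x y hx hy =>
        obtain ⟨t, ht⟩ := hx
        obtain ⟨t', ht'⟩ := hy
        exact ⟨t + t', by rw [map_add, map_add, ← ht, ← ht']; exact funext fun i => by simp⟩
    obtain ⟨t, ht⟩ := hlift z
    rw [hz] at ht
    refine Submodule.mem_sup.mpr ⟨g t, ⟨t, rfl⟩, v - g t, ?_, add_sub_cancel _ _⟩
    have hmem : v - g t ∈ J p (n + 1) 1 S • (⊤ : Submodule (TruncatedWittVector p (n + 1) S) _) :=
      FiltLift.mem_smul_top_pi _ fun i => by
        rw [← ker_wk_zero, RingHom.mem_ker, Pi.sub_apply, map_sub, sub_eq_zero]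
        exact (congrFun ht i).symm
    have hP := Submodule.mem_map_of_mem (f := P.mulVecLin) hmem
    rw [Submodule.map_smul'', Submodule.map_top, Matrix.mulVecLin_apply, Matrix.mulVec_sub, hfixV v hv, hgP] at hP
    exact hP
  have hrange : LinearMap.range g = V := by
    refine le_antisymm hgV ?_
    have : ∀ a : ℕ, V ≤ LinearMap.range g ⊔ J p (n + 1) 1 S ^ a • V := by
      intro a
      induction a with
      | zero => rw [pow_zero, Ideal.one_eq_top, Submodule.top_smul]; exact le_sup_right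
      | succ a ih =>
        refine hstep.trans (sup_le le_sup_left ?_)
        refine (Submodule.smul_mono le_rfl ih).trans ?_
        rw [Submodule.smul_sup, ← Submodule.mul_smul, ← pow_succ']
        exact sup_le_sup_right Submodule.smul_le_right _
    have h := this aS
    rwa [haS, Submodule.bot_smul, sup_bot_eq] at h
  refine ⟨?_, hrange⟩
  -- coordinates on `M`
  obtain ⟨L, pr, hpr⟩ := Module.Finite.exists_fin' (TruncatedWittVector p (n + 1) R) M
  obtain ⟨sec, hsec⟩ := Module.projective_lifting_property pr LinearMap.id hpr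
  have hi0 : ∀ a b, q a = q b → ∀ l, wk 0 (sec a l) = wk 0 (sec b l) := by
    intro a b hab l
    have h1 : a - b ∈ RingHom.ker (algebraMap (TruncatedWittVector p (n + 1) R) R) • (⊤ : Submodule (TruncatedWittVector p (n + 1) R) M) := by
      rw [← hqk, LinearMap.mem_ker, map_sub, hab, sub_self]
    have h2 := FiltLift.apply_mem_of_mem_smul_top _ (FiltLift.smul_top_le_comap _ sec h1) l
    rw [RingHom.mem_ker, RingHom.algebraMap_toAlgebra, map_sub, Pi.sub_apply, map_sub, sub_eq_zero] at h2
    exact h2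
  choose qs hqs using hq
  let i0 : N →ₗ[R] Fin L → R :=
    { toFun := fun w l => wk 0 (sec (qs w) l)
      map_add' := fun v w => funext fun l => by
        rw [hi0 (qs (v + w)) (qs v + qs w) (by rw [map_add q, hqs, hqs, hqs]) l, map_add, Pi.add_apply, map_add]
        rfl
      map_smul' := fun r w => funext fun l => by
        obtain ⟨r', rfl⟩ := wk_zero_surjective (p := p) (n := n) r
        rw [hi0 (qs (wk 0 r' • w)) (r' • qs w) (by rw [map_smul q, hqs, hqs]; rfl) l, map_smul, Pi.smul_apply,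
          smul_eq_mul, map_mul]
        rfl }
  let iS : TruncatedWittVector p (n + 1) S ⊗[TruncatedWittVector p (n + 1) R] M →ₗ[TruncatedWittVector p (n + 1) S]
      Fin L → TruncatedWittVector p (n + 1) S :=
    ((Algebra.linearMap (TruncatedWittVector p (n + 1) R) (TruncatedWittVector p (n + 1) S)).compLeft (Fin L) ∘ₗ
      sec).liftBaseChange _
  let prS : (Fin L → TruncatedWittVector p (n + 1) S) →ₗ[TruncatedWittVector p (n + 1) S]
      TruncatedWittVector p (n + 1) S ⊗[TruncatedWittVector p (n + 1) R] M :=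
    Fintype.linearCombination (TruncatedWittVector p (n + 1) S)
      (fun l => (1 : TruncatedWittVector p (n + 1) S) ⊗ₜ pr (Pi.single l 1))
  have hretr : ∀ t, prS (iS t) = t := by
    intro t
    induction t using TensorProduct.induction_on with
    | zero => simp
    | tmul s a =>
      have e : ∑ l, sec a l • pr (Pi.single l 1) = a := by
        conv_rhs => rw [← LinearMap.id_apply (R := TruncatedWittVector p (n + 1) R) a, ← hsec,
          LinearMap.comp_apply, pi_eq_sum_univ' (sec a), map_sum]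
        simp only [map_smul]
      have e' : iS (s ⊗ₜ a) = fun l => s * algebraMap _ (TruncatedWittVector p (n + 1) S) (sec a l) := by
        funext l; simp [iS]
      rw [e', Fintype.linearCombination_apply]
      conv_rhs => rw [← e, tmul_sum]
      refine Finset.sum_congr rfl fun l _ => ?_
      rw [TensorProduct.smul_tmul', smul_eq_mul, mul_one, mul_comm, ← Algebra.smul_def, smul_tmul]
    | add x y hx hy => rw [map_add, map_add, hx, hy]
  have hrel : ∀ t, ∃ z : S ⊗[R] N, canMap (R := R) (P.map (wk 0)) (G.map (wk 0)) z = wk 0 ∘ g t ∧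
      ((Algebra.linearMap R S).compLeft (Fin L) ∘ₗ i0).liftBaseChange S z = wk 0 ∘ iS t := by
    intro t
    induction t using TensorProduct.induction_on with
    | zero => exact ⟨0, funext fun i => by simp, funext fun i => by simp⟩
    | tmul s a =>
      refine ⟨wk 0 s ⊗ₜ q a, funext fun i => by simp [canMap, hgt, hfq], funext fun l => ?_⟩
      have := hi0 (qs (q a)) a (hqs (q a)) l
      simp [iS, i0, this, halg, wk_truncMap]
    | add x y hx hy =>
      obtain ⟨z, h1, h2⟩ := hx
      obtain ⟨z', h1', h2'⟩ := hy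
      exact ⟨z + z', by rw [map_add, h1, h1', map_add]; exact funext fun i => by simp,
        by rw [map_add, h2, h2', map_add]; exact funext fun i => by simp⟩
  have hsmall : ∀ t, g t = 0 → t ∈ J p (n + 1) 1 S • (⊤ : Submodule (TruncatedWittVector p (n + 1) S) _) := by
    intro t ht
    obtain ⟨z, h1, h2⟩ := hrel t
    have hz : z = 0 := canMap_injective _ _ (by rw [h1, ht, map_zero]; exact funext fun i => by simp)
    rw [hz, map_zero] at h2
    rw [← hretr t]
    refine FiltLift.smul_top_le_comap _ prS (FiltLift.mem_smul_top_pi _ fun l => ?_)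
    rw [← ker_wk_zero, RingHom.mem_ker]
    exact (congrFun h2 l).symm
  have hVp : Module.Projective (TruncatedWittVector p (n + 1) S) V :=
    Module.Projective.of_split V.subtype P.mulVecLin.rangeRestrict
      (LinearMap.ext fun ⟨v, hv⟩ => Subtype.ext (hfixV v hv))
  let g' := g.codRestrict V fun t => hgV ⟨t, rfl⟩
  obtain ⟨σ, hσ⟩ := Module.projective_lifting_property g' LinearMap.id (fun v => by
    obtain ⟨t, ht⟩ : (v : ι → TruncatedWittVector p (n + 1) S) ∈ LinearMap.range g :=
      (le_of_eq hrange.symm : V ≤ LinearMap.range g) v.2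
    exact ⟨t, Subtype.ext ht⟩)
  let τ := LinearMap.id - σ ∘ₗ g'
  have hτ : ∀ t, g t = 0 → τ t = t := fun t ht => by
    have : g' t = 0 := Subtype.ext ht
    simp [τ, this]
  have hgτ : ∀ t, g (τ t) = 0 := fun t => by
    have : g' (σ (g' t)) = g' t := LinearMap.congr_fun hσ (g' t)
    change ((g' (τ t) : V) : ι → TruncatedWittVector p (n + 1) S) = 0
    simp only [τ, LinearMap.sub_apply, LinearMap.id_apply, LinearMap.comp_apply, map_sub, this, sub_self]
    rfl
  have hiter : ∀ a : ℕ, LinearMap.range τ ≤ J p (n + 1) 1 S ^ a • ⊤ := by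
    intro a
    induction a with
    | zero => rw [pow_zero, Ideal.one_eq_top, Submodule.top_smul]; exact le_top
    | succ a ih =>
      rintro _ ⟨t, rfl⟩
      have h1 := Submodule.mem_map_of_mem (f := τ) (hsmall _ (hgτ t))
      rw [hτ _ (hgτ t), Submodule.map_smul'', Submodule.map_top] at h1
      rw [pow_succ', Submodule.mul_smul]
      exact Submodule.smul_mono le_rfl ih h1
  refine (injective_iff_map_eq_zero g).mpr fun t ht => ?_
  have := hiter aS ⟨t, hτ t ht⟩
  rwa [haS, Submodule.bot_smul, Submodule.mem_bot] at this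

end Effective

end Groth.Agent.CAlg8.WittDescent
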