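import Mathlib
import Groth.Prelude.Def_W4c3truncdispsmoothDesc
import Groth.Agent.CAlg8.WittDescent.Core
import Groth.Agent.CAlg8.WittDescent.Bridge

/-! Effectivity of descent for finite projective modules over truncated Witt vectors. -/

set_option autoImplicit false

universe u

open CategoryTheory Opposite TensorProduct Groth.Agent.CAlg8.ExtPF
open scoped Matrix

namespace Groth.Agent.CAlg8.WittDescent

variable (p : ℕ) [Fact p.Prime] (n : ℕ)

/-- `R ↦ W_n(R)`. -/
noncomputable abbrev wK : (CommRingCat.{u}ᵒᵖ)ᵒᵖ ⥤ CommRingCat.{u} :=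
  unopUnop CommRingCat.{u} ⋙ W4c3truncdispsmooth.wittTrunc.{u} p n

variable {R R' : Type u} [CommRing R] [CommRing R'] [Algebra R R']

variable (R R') in
/-- The covering map. -/
abbrev cov : op (CommRingCat.of R') ⟶ op (CommRingCat.of R) := (CommRingCat.ofHom (algebraMap R R')).op

/-- A ring map, as a morphism of affine schemes. -/
abbrev spec {A B : Type u} [CommRing A] [CommRing B] [Algebra R A] [Algebra R B] (g : A →ₐ[R] B) :
    op (CommRingCat.of B) ⟶ op (CommRingCat.of A) := (CommRingCat.ofHom g.toRingHom).op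

theorem spec_comp {A B C : Type u} [CommRing A] [CommRing B] [CommRing C] [Algebra R A] [Algebra R B] [Algebra R C]
    (g : A →ₐ[R] B) (h : B →ₐ[R] C) (k : A →ₐ[R] C) (e : ∀ a, h (g a) = k a) : spec h ≫ spec g = spec k :=
  Quiver.Hom.unop_inj (CommRingCat.hom_ext (RingHom.ext e))

theorem exists_univ (Y : CommRingCat.{u}ᵒᵖ) (g₁ g₂ : Y ⟶ op (CommRingCat.of R'))
    (h : g₁ ≫ cov R R' = g₂ ≫ cov R R') :
    ∃ k : Y ⟶ op (CommRingCat.of (R' ⊗[R] R')), k ≫ spec (q1 R R') = g₁ ∧ k ≫ spec (q2 R R') = g₂ := by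
  let a₁ : R' →+* Y.unop := g₁.unop.hom
  let a₂ : R' →+* Y.unop := g₂.unop.hom
  have h' : a₁.comp (algebraMap R R') = a₂.comp (algebraMap R R') :=
    congrArg (fun t => t.unop.hom) h
  let _ : Algebra R Y.unop := (a₁.comp (algebraMap R R')).toAlgebra
  let b₁ : R' →ₐ[R] Y.unop := { a₁ with commutes' := fun _ => rfl }
  let b₂ : R' →ₐ[R] Y.unop := { a₂ with commutes' := fun r => (RingHom.congr_fun h' r).symm }
  let l := Algebra.TensorProduct.lift b₁ b₂ fun _ _ => Commute.all _ _
  refine ⟨(CommRingCat.ofHom l.toRingHom).op, ?_, ?_⟩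
  · exact Quiver.Hom.unop_inj (CommRingCat.hom_ext (RingHom.ext fun x =>
      (Algebra.TensorProduct.lift_tmul b₁ b₂ (fun _ _ => Commute.all _ _) x 1).trans (by rw [map_one, mul_one]; rfl)))
  · exact Quiver.Hom.unop_inj (CommRingCat.hom_ext (RingHom.ext fun x =>
      (Algebra.TensorProduct.lift_tmul b₁ b₂ (fun _ _ => Commute.all _ _) 1 x).trans (by rw [map_one, one_mul]; rfl)))

theorem exists_effective' {p : ℕ} [Fact p.Prime] {ι : Type} [Fintype ι] [DecidableEq ι] :
    ∀ (n : ℕ) [Algebra (TruncatedWittVector p n R) (TruncatedWittVector p n R')],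
      algebraMap (TruncatedWittVector p n R) (TruncatedWittVector p n R') = WittGrp.truncMap p n (algebraMap R R') →
      IsNilpotent (p : R) → Module.FaithfullyFlat R R' →
      ∀ {P : Matrix ι ι (TruncatedWittVector p n R')} {G : Matrix ι ι (TruncatedWittVector p n (R' ⊗[R] R'))},
      WDatum P G →
      ∃ (M : Type u) (_ : AddCommGroup M) (_ : Module (TruncatedWittVector p n R) M),
      Module.Finite (TruncatedWittVector p n R) M ∧ Module.Projective (TruncatedWittVector p n R) M ∧
        ∃ f : M →ₗ[TruncatedWittVector p n R] (ι → TruncatedWittVector p n R'),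
          (∀ a, G *ᵥ (Wf p n (q1 R R') ∘ f a) = Wf p n (q2 R R') ∘ f a) ∧
          Function.Injective (f.liftBaseChange (TruncatedWittVector p n R')) ∧
          LinearMap.range (f.liftBaseChange (TruncatedWittVector p n R')) = LinearMap.range P.mulVecLin := by
  intro n _ halg hp _ P G H
  cases n with
  | zero =>
    have hs : ∀ T : Type u, [CommRing T] → Subsingleton (TruncatedWittVector p 0 T) := fun T _ =>
      ⟨fun a b => funext fun i => i.elim0⟩
    have := hs R; have := hs R'; have := hs (R' ⊗[R] R')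
    have : Subsingleton (TruncatedWittVector p 0 R' ⊗[TruncatedWittVector p 0 R] PUnit.{u + 1}) :=
      Module.subsingleton (TruncatedWittVector p 0 R') _
    exact ⟨PUnit.{u + 1}, inferInstance, inferInstance, inferInstance, inferInstance, 0,
      fun a => Subsingleton.elim _ _, Function.injective_of_subsingleton _, Subsingleton.elim _ _⟩
  | succ n => exact exists_effective halg hp H

set_option maxHeartbeats 1000000 in
theorem effective_wK [Module.FaithfullyFlat R R'] (hp : IsNilpotent (p : R))
    (DD : (P (wK.{u} p n)).DescentData (fun _ : PUnit.{u + 1} => cov R R'))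
    (hDD : Module.Finite ((wK.{u} p n).obj (op (op (CommRingCat.of R')))) (objU (wK.{u} p n) (cov R R') DD) ∧
      Module.Projective ((wK.{u} p n).obj (op (op (CommRingCat.of R')))) (objU (wK.{u} p n) (cov R R') DD)) :
    ∃ M : ModuleCat.{u} (TruncatedWittVector p n R),
      (Module.Finite (TruncatedWittVector p n R) M ∧ Module.Projective (TruncatedWittVector p n R) M) ∧
        Nonempty (((P (wK.{u} p n)).toDescentData (fun _ : PUnit.{u + 1} => cov R R')).obj M ≅ DD) := by
  classical
  obtain ⟨hf, hpj⟩ := hDD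
  obtain ⟨N, pr, hpr⟩ := Module.Finite.exists_fin' ((wK.{u} p n).obj (op (op (CommRingCat.of R')))) (objU (wK.{u} p n) (cov R R') DD)
  obtain ⟨s, hs⟩ := Module.projective_lifting_property pr LinearMap.id hpr
  have hps : ∀ m, pr (s m) = m := LinearMap.congr_fun hs
  let K := wK.{u} p n
  have hq : spec (q1 R R') ≫ cov R R' = spec (q2 R R') ≫ cov R R' :=
    Quiver.Hom.unop_inj (CommRingCat.hom_ext (RingHom.ext fun r =>
      ((q1 R R').commutes r).trans ((q2 R R').commutes r).symm))
  have H := isDatum_glueMat K (cov R R') DD pr s hps (op (CommRingCat.of (R' ⊗[R] R')))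
    (op (CommRingCat.of (R' ⊗[R] (R' ⊗[R] R')))) (spec (q1 R R')) (spec (q2 R R')) hq
    (spec (p12 R R')) (spec (p13 R R')) (spec (p23 R R')) (spec (mu R R'))
    (spec_comp _ _ (AlgHom.id R R') (mu_q1 R R')) (spec_comp _ _ (AlgHom.id R R') (mu_q2 R R'))
    ((spec_comp _ _ ((p13 R R').comp (q1 R R')) (p12_q1 R R')).trans
      (spec_comp _ _ _ fun _ => rfl).symm)
    ((spec_comp _ _ ((p23 R R').comp (q1 R R')) (p12_q2 R R')).trans
      (spec_comp _ _ _ fun _ => rfl).symm)
    ((spec_comp _ _ ((p23 R R').comp (q2 R R')) (p13_q2 R R')).trans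
      (spec_comp _ _ _ fun _ => rfl).symm)
  let _ : Algebra (TruncatedWittVector p n R) (TruncatedWittVector p n R') :=
    (WittGrp.truncMap p n (algebraMap R R')).toAlgebra
  obtain ⟨M, _, _, hMf, hMp, φ, hinv, hinj, hrange⟩ :=
    exists_effective' (R := R) (R' := R') (p := p) n rfl hp inferInstance
      (P := idemMat pr s) (G := glueMat K (cov R R') DD pr s (spec (q1 R R')) (spec (q2 R R')) hq) H
  obtain ⟨e, he, hφ⟩ := exists_iso_of_coords (A := TruncatedWittVector p n R) (B := TruncatedWittVector p n R') (M' := objU (wK.{u} p n) (cov R R') DD) pr s hps (WittGrp.truncMap p n (algebraMap R R')) rfl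
    (ModuleCat.of (TruncatedWittVector p n R) M) φ hinj hrange
  exact ⟨ModuleCat.of (TruncatedWittVector p n R) M, ⟨hMf, hMp⟩,
    nonempty_iso_of_invariant K (cov R R') DD pr s hps (ModuleCat.of (TruncatedWittVector p n R) M) (fun a => φ a)
      e he hφ (op (CommRingCat.of (R' ⊗[R] R'))) (spec (q1 R R')) (spec (q2 R R')) hq
      (fun Y g₁ g₂ h => exists_univ Y g₁ g₂ h) hinv⟩

end Groth.Agent.CAlg8.WittDescent
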